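import Cfsg.Agent.S2530

/-!
# S4942: Young subgroups of the symmetric group (helper82)
-/

set_option autoImplicit false

open Cfsg

namespace Cfsg.Agent.VAN.HC

open Equiv
open Cfsg.Agent.S2530 (adj)

variable {m : ℕ}

/-- the permutations which preserve the fibres of `g` -/
def St {α β : Type*} (g : α → β) : Subgroup (Perm α) where
  carrier := {σ | ∀ a, g (σ a) = g a}
  mul_mem' := fun ha hb x => (ha _).trans (hb x)
  one_mem' := fun _ => rfl
  inv_mem' := fun {σ} hσ x => by
    have h1 := hσ (σ⁻¹ x)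
    rw [← Perm.mul_apply, mul_inv_cancel, Perm.one_apply] at h1
    exact h1.symm

/-- the Young subgroup with the cuts `q` -/
def Yq (q : Fin m → Prop) : Subgroup (Perm (Fin (m + 1))) where
  carrier := {σ | ∀ i, q i → ∀ a, (σ a : ℕ) ≤ i ↔ (a : ℕ) ≤ i}
  mul_mem' := fun ha hb i hi x => (ha i hi _).trans (hb i hi x)
  one_mem' := fun _ _ _ => Iff.rfl
  inv_mem' := fun {σ} hσ i hi x => by
    have h1 := hσ i hi (σ⁻¹ x)
    rw [← Perm.mul_apply, mul_inv_cancel, Perm.one_apply] at h1
    exact h1.symm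

theorem eq_of_cut {β : Type*} (g : Fin (m + 1) → β) (a b : Fin (m + 1))
    (h : ∀ i : Fin m, g i.castSucc ≠ g i.succ → ((a : ℕ) ≤ i ↔ (b : ℕ) ≤ i)) : g a = g b := by
  have key : ∀ (d : ℕ) (a b : Fin (m + 1)), (b : ℕ) = a + d →
      (∀ i : Fin m, g i.castSucc ≠ g i.succ → ((a : ℕ) ≤ i ↔ (b : ℕ) ≤ i)) → g a = g b := by
    intro d
    induction d with
    | zero => exact fun a b e _ => congrArg g (Fin.ext e.symm)
    | succ d ih =>
      intro a b e h
      have hb := b.2
      have h1 : g (Fin.castSucc ⟨a + d, by omega⟩) = g (Fin.succ ⟨a + d, by omega⟩) := by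
        by_contra h2
        have h3 := (h _ h2).1 (Nat.le_add_right _ _)
        change (b : ℕ) ≤ a + d at h3
        omega
      have h2 : Fin.succ (⟨a + d, by omega⟩ : Fin m) = b := Fin.ext (by rw [e]; rfl)
      rw [← h2, ← h1]
      refine ih a _ rfl fun i hi => ?_
      have h3 := h i hi
      change _ ↔ a + d ≤ (i : ℕ)
      omega
  rcases le_total (a : ℕ) b with h1 | h1
  · exact key (b - a) a b (by omega) h
  · exact (key (a - b) b a (by omega) fun i hi => (h i hi).symm).symm

theorem adj_mem_Yq {q : Fin m → Prop} {j : Fin m} (hj : ¬ q j) : adj m j ∈ Yq q := by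
  intro i hi a
  have h1 : (i : ℕ) ≠ j := fun e => hj (Fin.ext e ▸ hi)
  unfold adj
  rw [swap_apply_def]
  split_ifs with h2 h3
  · rw [h2, Fin.val_succ, Fin.val_castSucc]
    omega
  · rw [h3, Fin.val_succ, Fin.val_castSucc]
    omega
  · rfl

theorem Yq_le (q : Fin m → Prop) : Yq q ≤ Subgroup.closure {σ | ∃ j, ¬ q j ∧ adj m j = σ} := by
  intro σ hσ
  rw [mem_closure_isSwap (by
    rintro _ ⟨j, -, rfl⟩
    exact ⟨_, _, Fin.castSucc_lt_succ.ne, rfl⟩)]
  refine ⟨Set.toFinite _, fun x => ?_⟩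
  rw [← MulAction.orbit_eq_iff]
  refine eq_of_cut (fun a => MulAction.orbit (Subgroup.closure {σ | ∃ j, ¬ q j ∧ adj m j = σ}) a) _ _ fun i hi => ?_
  refine hσ i ?_ x
  by_contra h1
  apply hi
  rw [MulAction.orbit_eq_iff]
  exact ⟨⟨adj m i, Subgroup.subset_closure ⟨i, h1, rfl⟩⟩, swap_apply_right _ _⟩

theorem exists_sort {β : Type*} (g : Fin (m + 1) → β) : ∃ τ : Perm (Fin (m + 1)), ∀ σ,
    σ ∈ St g ↔ τ⁻¹ * σ * τ ∈ Yq fun i => g (τ i.castSucc) ≠ g (τ i.succ) := by
  obtain ⟨_, -⟩ := exists_wellFoundedLT β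
  have hm := Tuple.monotone_sort g
  refine ⟨Tuple.sort g, fun σ => ?_⟩
  set τ := Tuple.sort g
  have e : ∀ a, τ ((τ⁻¹ * σ * τ) a) = σ (τ a) := fun a => by
    rw [← Perm.mul_apply, ← mul_assoc, mul_inv_cancel_left, Perm.mul_apply]
  constructor
  · intro hσ i hi a
    have h1 : ∀ b : Fin (m + 1), (b : ℕ) ≤ i ↔ g (τ b) ≤ g (τ i.castSucc) := fun b =>
      ⟨fun hb => hm (show b ≤ i.castSucc from hb), fun hb => by
        by_contra h2
        exact hi (le_antisymm (hm Fin.castSucc_lt_succ.le)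
          (le_trans (hm (show i.succ ≤ b from not_le.1 h2)) hb))⟩
    rw [h1, h1, e, hσ]
  · intro hσ a
    have h1 := eq_of_cut (fun a => g (τ a)) ((τ⁻¹ * σ * τ) (τ⁻¹ a)) (τ⁻¹ a) fun i hi => hσ i hi _
    have e2 : τ (τ⁻¹ a) = a := by rw [← Perm.mul_apply, mul_inv_cancel, Perm.one_apply]
    simp only [e, e2] at h1
    exact h1

theorem exists_cut {β : Type*} (g : Fin (m + 1) → β) {a b : Fin (m + 1)} (h : g a ≠ g b) :
    ∃ (τ : Perm (Fin (m + 1))) (i : Fin m), ∀ σ ∈ St g, τ⁻¹ * σ * τ ∈ Yq (· = i) := by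
  obtain ⟨τ, hτ⟩ := exists_sort g
  have h1 : ∃ i : Fin m, g (τ i.castSucc) ≠ g (τ i.succ) := by
    by_contra h1
    have h2 := eq_of_cut (fun a => g (τ a)) (τ.symm a) (τ.symm b) fun i hi => absurd ⟨i, hi⟩ h1
    simp only [apply_symm_apply] at h2
    exact h h2
  obtain ⟨i, hi⟩ := h1
  exact ⟨τ, i, fun σ hσ j hj => (hτ σ).1 hσ j (hj ▸ hi)⟩

/-- permutations with the same orbits are conjugate -/
theorem isConj_of_same {α : Type*} [Fintype α] [DecidableEq α] {x y : Perm α}
    (h : ∀ a b, x.SameCycle a b ↔ y.SameCycle a b) : IsConj x y := by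
  have key : ∀ x : Perm α, x.cycleType = (x.support.image fun a => (x.cycleOf a).support).1.map Finset.card := by
    intro x
    have h1 : (x.support.image fun a => (x.cycleOf a).support) = x.cycleFactorsFinset.image Perm.support := by
      ext s
      simp only [Finset.mem_image]
      constructor
      · rintro ⟨a, ha, rfl⟩
        exact ⟨_, Perm.cycleOf_mem_cycleFactorsFinset_iff.2 ha, rfl⟩
      · rintro ⟨c, hc, rfl⟩
        obtain ⟨a, ha⟩ := (Perm.mem_cycleFactorsFinset_iff.1 hc).1.nonempty_support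
        exact ⟨a, Perm.mem_cycleFactorsFinset_support_le hc ha, by rw [← Perm.cycle_is_cycleOf ha hc]⟩
    rw [h1, Finset.image_val_of_injOn, Multiset.map_map, Perm.cycleType_def]
    intro c hc d hd e
    obtain ⟨a, ha⟩ := (Perm.mem_cycleFactorsFinset_iff.1 hc).1.nonempty_support
    rw [Perm.cycle_is_cycleOf ha hc, ← Perm.cycle_is_cycleOf (e ▸ ha) hd]
  have h0 : ∀ {x y : Perm α}, (∀ a b, x.SameCycle a b → y.SameCycle a b) → x.support ⊆ y.support := by
    intro x y h a ha
    rw [Perm.mem_support] at ha ⊢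
    intro h1
    exact ha ((h a (x a) (Perm.sameCycle_apply_right.2 (Perm.SameCycle.refl _ _))).eq_of_left h1).symm
  have h1 : x.support = y.support :=
    Finset.Subset.antisymm (h0 fun a b => (h a b).1) (h0 fun a b => (h a b).2)
  rw [Perm.isConj_iff_cycleType_eq, key, key, h1]
  congr 3
  funext a
  ext b
  rw [Perm.mem_support_cycleOf_iff, Perm.mem_support_cycleOf_iff, h, h1]

/-- a class function is determined by its sums over the Young subgroups -/
theorem spanS (F : Perm (Fin (m + 1)) → ℂ) (hF : ∀ x y, F (y * x * y⁻¹) = F x)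
    (h0 : ∀ q : Fin m → Prop, ∑ᶠ σ : Yq q, F σ = 0) (x : Perm (Fin (m + 1))) : F x = 0 := by
  classical
  have h1 : ∀ g : Fin (m + 1) → Set (Fin (m + 1)), ∑ σ : St g, F σ = 0 := by
    intro g
    obtain ⟨τ, hτ⟩ := exists_sort g
    rw [← h0 fun i => g (τ i.castSucc) ≠ g (τ i.succ), finsum_eq_sum_of_fintype]
    refine Fintype.sum_equiv (Equiv.subtypeEquiv (MulAut.conj τ⁻¹).toEquiv fun σ => ?_) _ _ fun σ => ?_
    · rw [hτ]
      change _ ↔ τ⁻¹ * σ * τ⁻¹⁻¹ ∈ _
      rw [inv_inv]
    · exact (hF σ τ⁻¹).symm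
  have h2 : ∀ x y : Perm (Fin (m + 1)), y ∈ St (fun a => {b | x.SameCycle a b}) ↔ ∀ a, x.SameCycle a (y a) :=
    fun x y => ⟨fun hy a => by
      have h3 : y a ∈ {b | x.SameCycle (y a) b} := Perm.SameCycle.refl _ _
      have h4 := hy a
      simp only at h4
      rwa [h4] at h3, fun hy a => Set.ext fun b => ⟨fun hb => (hy a).trans hb, fun hb => (hy a).symm.trans hb⟩⟩
  have h3 : ∀ x y : Perm (Fin (m + 1)), y ∈ St (fun a => {b | x.SameCycle a b}) →
      ∀ a b, y.SameCycle a b → x.SameCycle a b := by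
    rintro x y hy a _ ⟨k, rfl⟩
    exact (h2 x _).1 (zpow_mem hy k) a
  have key : ∀ (H : Subgroup (Perm (Fin (m + 1)))) (x : Perm (Fin (m + 1))),
      St (fun a => {b | x.SameCycle a b}) = H → F x = 0 := by
    intro H
    induction H using WellFoundedLT.induction with
    | ind H ih =>
      intro x hx
      have h4 : ∀ y : St (fun a => {b | x.SameCycle a b}),
          F y = (if St (fun a => {b | (y : Perm _).SameCycle a b}) = H then 1 else 0) * F x := by
        intro y
        split_ifs with h5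
        · rw [one_mul]
          obtain ⟨z, hz⟩ := isConj_iff.1 (isConj_of_same (x := x) (y := y) fun a b => ⟨fun hab => by
            have h6 : swap a b ∈ St (fun a => {b | x.SameCycle a b}) := (h2 _ _).2 fun c => by
              rw [swap_apply_def]
              split_ifs with h7 h8
              · rwa [h7]
              · rw [h8]
                exact hab.symm
              · exact Perm.SameCycle.refl _ _
            rw [hx, ← h5] at h6
            have h7 := (h2 _ _).1 h6 a
            rwa [swap_apply_left] at h7, h3 x y y.2 a b⟩)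
          rw [← hz, hF]
        · rw [zero_mul]
          refine ih _ (lt_of_le_of_ne ?_ h5) _ rfl
          rw [← hx]
          exact fun z hz => (h2 _ _).2 fun a => h3 x y y.2 _ _ ((h2 _ _).1 hz a)
      have h5 := h1 fun a => {b | x.SameCycle a b}
      rw [Finset.sum_congr rfl fun y _ => h4 y, ← Finset.sum_mul, Finset.sum_boole] at h5
      refine (mul_eq_zero.1 h5).resolve_left (Nat.cast_ne_zero.2 (Finset.card_ne_zero.2 ⟨⟨x, (h2 _ _).2 fun a =>
        Perm.sameCycle_apply_right.2 (Perm.SameCycle.refl _ _)⟩, ?_⟩))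
      exact Finset.mem_filter.2 ⟨Finset.mem_univ _, hx⟩
  exact key _ x rfl

/-- the Coxeter element -/
theorem prod_adj (i : Fin m) : (List.ofFn (adj m)).prod i.castSucc = i.succ := by
  have key : ∀ k ≤ m, ∀ a : Fin (m + 1), (((List.ofFn (adj m)).take k).prod a : ℕ) =
      if (a : ℕ) < k then (a : ℕ) + 1 else if (a : ℕ) = k then 0 else a := by
    intro k
    induction k with
    | zero =>
      intro _ a
      rw [List.take_zero, List.prod_nil, Perm.one_apply]
      split_ifs <;> omega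
    | succ k ih =>
      intro hk a
      rw [List.prod_take_succ _ k (by rw [List.length_ofFn]; omega), List.getElem_ofFn, Perm.mul_apply, ih (by omega)]
      have h1 : ((adj m ⟨k, by omega⟩ a : Fin (m + 1)) : ℕ) =
          if (a : ℕ) = k then k + 1 else if (a : ℕ) = k + 1 then k else a := by
        unfold adj
        rw [swap_apply_def]
        simp only [Fin.ext_iff, Fin.val_castSucc, Fin.val_succ]
        split_ifs <;> rfl
      rw [h1]
      split_ifs <;> omega
  have h1 := key m le_rfl i.castSucc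
  rw [List.take_of_length_le (by rw [List.length_ofFn]), if_pos (by rw [Fin.val_castSucc]; exact i.2)] at h1
  exact Fin.ext h1

theorem not_cut (τ : Perm (Fin (m + 1))) (i : Fin m) : τ * (List.ofFn (adj m)).prod * τ⁻¹ ∉ Yq (· = i) := by
  intro h
  have h1 := eq_of_cut (fun a => (τ a : ℕ) ≤ i) (τ.symm 0) (τ.symm (Fin.last m)) fun j hj => absurd (by
    have h2 := h i rfl (τ j.castSucc)
    rw [Perm.mul_apply, Perm.mul_apply, ← Perm.mul_apply τ⁻¹, inv_mul_cancel, Perm.one_apply, prod_adj] at h2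
    exact propext h2.symm) hj
  simp only [apply_symm_apply, Fin.val_zero, Fin.val_last, Nat.zero_le, eq_iff_iff, true_iff] at h1
  have := i.2
  omega

/-- all blocks have the same size -/
theorem shapeS (q : Fin m → Prop) {d : ℕ}
    (h : ∀ a : Fin (m + 1), Nat.card {b : Fin (m + 1) // ∀ i, q i → ((a : ℕ) ≤ i ↔ (b : ℕ) ≤ i)} = d) :
    0 < d ∧ d ∣ m + 1 ∧ ∀ i : Fin m, q i ↔ d ∣ (i : ℕ) + 1 := by
  classical
  let Q : ℕ → Prop := fun j => j = 0 ∨ j = m + 1 ∨ ∃ i : Fin m, q i ∧ j = i + 1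
  have step : ∀ j ≤ m, Q j → j + d ≤ m + 1 ∧ Q (j + d) ∧ 0 < d ∧ ∀ r, 0 < r → r < d → ¬ Q (j + r) := by
    intro j hj hQ
    have hex : ∃ r, 0 < r ∧ Q (j + r) := ⟨m + 1 - j, by omega, Or.inr (Or.inl (by omega))⟩
    obtain ⟨h1, h2⟩ := Nat.find_spec hex
    have h3 : Nat.find hex ≤ m + 1 - j := Nat.find_min' hex ⟨by omega, Or.inr (Or.inl (by omega))⟩
    have h4 : ∀ r, 0 < r → r < Nat.find hex → ¬ Q (j + r) := fun r h5 h6 h7 => Nat.find_min hex h6 ⟨h5, h7⟩
    generalize Nat.find hex = r at h1 h2 h3 h4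
    have h5 : d = r := by
      rw [← h ⟨j, by omega⟩, ← Nat.card_fin r]
      symm
      refine Nat.card_congr (Equiv.ofBijective (fun t => ⟨⟨j + t, by have := t.2; omega⟩, fun i hi => ?_⟩) ⟨?_, ?_⟩)
      · change j ≤ i ↔ j + t ≤ i
        refine ⟨fun h6 => ?_, fun h6 => by omega⟩
        by_contra h7
        have := t.2
        exact h4 (i + 1 - j) (by omega) (by omega) (Or.inr (Or.inr ⟨i, hi, by omega⟩))
      · intro s t e
        have h6 : j + s = j + t := congrArg (fun x => (x.1 : ℕ)) e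
        exact Fin.ext (by omega)
      · rintro ⟨b, hb⟩
        have hb2 := b.2
        have h6 : j ≤ b := by
          rcases hQ with h6 | h6 | ⟨i, hi, h6⟩
          · omega
          · omega
          · have h7 : j ≤ i ↔ (b : ℕ) ≤ i := hb i hi
            omega
        have h7 : (b : ℕ) < j + r := by
          rcases h2 with h7 | h7 | ⟨i, hi, h7⟩
          · omega
          · omega
          · have h8 : j ≤ i ↔ (b : ℕ) ≤ i := hb i hi
            omega
        exact ⟨⟨b - j, by omega⟩, Subtype.ext (Fin.ext (show j + (b - j) = b by omega))⟩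
    subst h5
    exact ⟨by omega, h2, h1, h4⟩
  have hd : 0 < d := (step 0 (Nat.zero_le _) (Or.inl rfl)).2.2.1
  have mult : ∀ k, d * k ≤ m + 1 → Q (d * k) := by
    intro k
    induction k with
    | zero => exact fun _ => Or.inl rfl
    | succ k ih =>
      intro hk
      rw [Nat.mul_succ] at hk ⊢
      exact (step _ (by omega) (ih (by omega))).2.1
  have key : ∀ j ≤ m + 1, Q j ↔ d ∣ j := by
    intro j hj
    have e := Nat.div_add_mod j d
    refine ⟨fun hQ => ?_, ?_⟩
    · by_contra h1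
      have h2 : 0 < j % d := Nat.pos_of_ne_zero fun h2 => h1 (Nat.dvd_of_mod_eq_zero h2)
      refine (step _ (by omega) (mult (j / d) (by omega))).2.2.2 _ h2 (Nat.mod_lt _ hd) ?_
      rwa [e]
    · rintro ⟨k, rfl⟩
      exact mult k hj
  refine ⟨hd, (key _ le_rfl).1 (Or.inr (Or.inl rfl)), fun i => ?_⟩
  have hi := i.2
  rw [← key _ (by omega)]
  refine ⟨fun h1 => Or.inr (Or.inr ⟨i, h1, rfl⟩), ?_⟩
  rintro (h1 | h1 | ⟨j, hj, h1⟩)
  · omega
  · omega
  · rwa [show i = j from Fin.ext (by omega)]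

end Cfsg.Agent.VAN.HC
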