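import Cfsg.Agent.VAN.HC.Rel

/-!
# S4942: commuting parabolic subgroups of the Weyl group (helper82)
-/

set_option autoImplicit false
set_option linter.unusedSectionVars false

open Cfsg

namespace Cfsg.Agent.VAN.HC

open Cfsg.Agent.H53.HC Cfsg.Agent.H641.Gow
open CoxeterSystem Cfsg.Agent.ChevalleyStructure.CoxeterGeom Cfsg.Agent.Tits.Roots Cfsg.Agent.Tits.Core
  Cfsg.Agent.Tits.Exchange Cfsg.Agent.Nodes.StabComb

variable {I W : Type*} [Group W] {M : CoxeterMatrix I} {cs : CoxeterSystem M W}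

/-- the reflections of `K` commute with those of `K'` -/
def Cm (cs : CoxeterSystem M W) (K K' : Set I) : Prop :=
  ∀ i ∈ K, ∀ j ∈ K', cs.simple i * cs.simple j = cs.simple j * cs.simple i

theorem Cm.symm {K K' : Set I} (hc : Cm cs K K') : Cm cs K' K := fun i hi j hj => (hc j hj i hi).symm

theorem Cm.comm {K K' : Set I} (hc : Cm cs K K') {a b : W} (ha : a ∈ WJ cs K) (hb : b ∈ WJ cs K') :
    a * b = b * a := by
  have h1 : WJ cs K ≤ Subgroup.centralizer (WJ cs K' : Set W) := by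
    unfold WJ
    rw [Subgroup.closure_le]
    rintro _ ⟨i, hi, rfl⟩
    have h2 : Subgroup.closure (cs.simple '' K') ≤ Subgroup.centralizer {cs.simple i} := by
      rw [Subgroup.closure_le]
      rintro _ ⟨j, hj, rfl⟩
      exact Subgroup.mem_centralizer_singleton_iff.2 (hc i hi j hj).symm
    exact Subgroup.mem_centralizer_iff.2 fun y hy => Subgroup.mem_centralizer_singleton_iff.1 (h2 hy)
  exact (Subgroup.mem_centralizer_iff.1 (h1 ha) b hb).symm

theorem Cm.exists_mul {K K' : Set I} (hc : Cm cs K K') {x : W} (hx : x ∈ WJ cs (K ∪ K')) :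
    ∃ a ∈ WJ cs K, ∃ b ∈ WJ cs K', x = a * b := by
  unfold WJ at hx
  induction hx using Subgroup.closure_induction with
  | mem v hv =>
    obtain ⟨i, hi | hi, rfl⟩ := hv
    · exact ⟨_, simple_mem_WJ cs hi, 1, one_mem _, (mul_one _).symm⟩
    · exact ⟨1, one_mem _, _, simple_mem_WJ cs hi, (one_mul _).symm⟩
  | one => exact ⟨1, one_mem _, 1, one_mem _, (mul_one _).symm⟩
  | mul v w _ _ ih1 ih2 =>
    obtain ⟨a, ha, b, hb, rfl⟩ := ih1
    obtain ⟨a', ha', b', hb', rfl⟩ := ih2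
    refine ⟨a * a', mul_mem ha ha', b * b', mul_mem hb hb', ?_⟩
    calc a * b * (a' * b') = a * (b * a') * b' := by group
      _ = a * (a' * b) * b' := by rw [hc.comm ha' hb]
      _ = _ := by group
  | inv v _ ih =>
    obtain ⟨a, ha, b, hb, rfl⟩ := ih
    exact ⟨a⁻¹, inv_mem ha, b⁻¹, inv_mem hb, by rw [mul_inv_rev, hc.comm (inv_mem ha) (inv_mem hb)]⟩

theorem Cm.conj {K K' : Set I} (hc : Cm cs K K') {x y : W} (hx : x ∈ WJ cs (K ∪ K')) (hy : y ∈ WJ cs K) :
    x⁻¹ * y * x ∈ WJ cs K := by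
  obtain ⟨a, ha, b, hb, rfl⟩ := hc.exists_mul hx
  have h1 : a⁻¹ * y * a ∈ WJ cs K := mul_mem (mul_mem (inv_mem ha) hy) ha
  have e : (a * b)⁻¹ * y * (a * b) = b⁻¹ * ((a⁻¹ * y * a) * b) := by group
  rwa [e, hc.comm h1 hb, inv_mul_cancel_left]

theorem Cm.conj' {K K' : Set I} (hc : Cm cs K K') {x y : W} (hx : x ∈ WJ cs (K ∪ K')) (hy : y ∈ WJ cs K') :
    x⁻¹ * y * x ∈ WJ cs K' :=
  hc.symm.conj (by rwa [Set.union_comm]) hy

theorem cm_of_two {K K' : Set I} (hM : ∀ i ∈ K, ∀ j ∈ K', M i j = 2) : Cm cs K K' := by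
  intro i hi j hj
  have h1 := cs.simple_mul_simple_pow i j
  rw [hM i hi j hj, pow_two] at h1
  have h2 : cs.simple i * cs.simple j = (cs.simple i * cs.simple j)⁻¹ := eq_inv_of_mul_eq_one_left h1
  rw [h2, mul_inv_rev, cs.inv_simple, cs.inv_simple]

variable [Fintype I] [DecidableEq I] {A : I → I → ℤ} [Finite W]

theorem cm_of_orth (h : IsCartan M A) {K K' : Set I} (ho : Orth A K K') : Cm cs K K' := by
  intro i hi j hj
  have h1 := RootAmalgam.simple_conj cs h (ho.fix (cs := cs) (h := h) hi (PosJ_subset K' (sr_mem_PosJ hj)))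
  rw [← h1, inv_mul_cancel_right, h1]

theorem simple_not_mem (h : IsCartan M A) {K : Set I} {a : I} (ha : a ∉ K) : cs.simple a ∉ WJ cs K := by
  intro h1
  have h2 := rep_WJ_apply (h := h) h1 (sr a) ha
  rw [rep_simple_sr, Pi.neg_apply, sr_self] at h2
  omega

end Cfsg.Agent.VAN.HC
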