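import Cfsg.Agent.VAN.HC.Cor
import Cfsg.Agent.VAN.HC.Wey
import Cfsg.Agent.VAN.HC.Sym
import Cfsg.Agent.Tits.ExtAux

/-!
# S4942: components of type `A` (helper82)

`Chain.shape`, `Chain.trans`, `Chain.theta`, `Chain.span`, `Chain.ellW`.
-/

set_option autoImplicit false
set_option linter.unusedSectionVars false

open Cfsg

namespace Cfsg.Agent.VAN.HC

open CoxeterSystem Cfsg.Agent.ChevalleyStructure.CoxeterGeom Cfsg.Agent.Tits.Roots Cfsg.Agent.Tits.Core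
  Cfsg.Agent.Tits.Exchange Cfsg.Agent.Nodes.Reps Cfsg.Agent.Nodes.BNOf Cfsg.Agent.Nodes.StabComb
  Cfsg.Agent.OddOrderCharacters.Clifford Cfsg.Agent.H53.HC
open Cfsg.Agent.H439.CC (mu)
open Cfsg.Agent.ODD.Hk (csJ csJ_simple)

variable {I W : Type*} [Group W] {M : CoxeterMatrix I} {cs : CoxeterSystem M W} {J : Set I} {m : ℕ} {c : Fin m → I}
  [Finite W] [Fintype I]

theorem Chain.sub (C : Chain M J c) : Set.range c ⊆ J := by
  rintro _ ⟨i, rfl⟩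
  exact C.mem i

theorem Chain.cm (C : Chain M J c) : Cm cs (Set.range c) (J \ Set.range c) :=
  cm_of_two (by
    rintro _ ⟨i, rfl⟩ j hj
    exact C.orth i j hj.1 hj.2)

theorem Chain.eqA (C : Chain M J c) (i j : Fin m) : M (c i) (c j) = CoxeterMatrix.A m i j := by
  change _ = if i = j then 1 else (if (j : ℕ) + 1 = i ∨ (i : ℕ) + 1 = j then 3 else 2)
  split_ifs with h1 h2
  · rw [h1, M.diagonal]
  · rcases h2 with h2 | h2
    · rw [M.symmetric, C.adj j i h2]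
    · exact C.adj i j h2
  · have h3 : (i : ℕ) ≠ j := fun e => h1 (Fin.ext e)
    rcases lt_or_gt_of_ne h3 with h4 | h4
    · exact C.far i j (by omega)
    · rw [M.symmetric, C.far j i (by omega)]

/-- the permutation model of a component of type `A` -/
structure Mod (cs : CoxeterSystem M W) (J : Set I) (c : Fin m → I) (π : W → Equiv.Perm (Fin (m + 1)))
    (ι : Equiv.Perm (Fin (m + 1)) →* W) : Prop where
  mul : ∀ x ∈ WJ cs J, ∀ y ∈ WJ cs J, π (x * y) = π x * π y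
  adj : ∀ i, ι (S2530.adj m i) = cs.simple (c i)
  smp : ∀ i, π (cs.simple (c i)) = S2530.adj m i
  out : ∀ j ∈ J, j ∉ Set.range c → π (cs.simple j) = 1

theorem Chain.mod (C : Chain M J c) : ∃ π ι, Mod cs J c π ι := by
  classical
  obtain ⟨cs', hcs'⟩ := S2530.result m
  have h1 : (CoxeterMatrix.A m).IsLiftable fun i => cs.simple (c i) := fun i j => by
    rw [← C.eqA]
    exact cs.simple_mul_simple_pow _ _
  let f : J → Equiv.Perm (Fin (m + 1)) := fun j => if hj : ∃ i, c i = j then S2530.adj m hj.choose else 1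
  have hf : ∀ i, f ⟨c i, C.mem i⟩ = S2530.adj m i := fun i => by
    have h2 : ∃ k, c k = c i := ⟨i, rfl⟩
    change (if hj : ∃ k, c k = c i then S2530.adj m hj.choose else 1) = _
    rw [dif_pos h2, C.inj h2.choose_spec]
  have hf' : ∀ j : J, j.1 ∉ Set.range c → f j = 1 := fun j hj => dif_neg hj
  have h2 : (ODD.Hk.MJ M J).IsLiftable f := by
    rintro ⟨i, hi⟩ ⟨j, hj⟩
    change (f ⟨i, hi⟩ * f ⟨j, hj⟩) ^ M i j = 1
    by_cases h3 : i ∈ Set.range c <;> by_cases h4 : j ∈ Set.range c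
    · obtain ⟨a, rfl⟩ := h3
      obtain ⟨b, rfl⟩ := h4
      rw [hf, hf, C.eqA]
      exact S2530.liftable m a b
    · obtain ⟨a, rfl⟩ := h3
      rw [hf, hf' ⟨j, hj⟩ h4, C.orth a j hj h4, mul_one, pow_two, S2530.adj_mul_self]
    · obtain ⟨a, rfl⟩ := h4
      rw [hf, hf' ⟨i, hi⟩ h3, M.symmetric, C.orth a i hi h3, one_mul, pow_two, S2530.adj_mul_self]
    · rw [hf' ⟨i, hi⟩ h3, hf' ⟨j, hj⟩ h4, one_mul, one_pow]
  have h3 : ∀ j (hj : j ∈ J), (if hx : cs.simple j ∈ WJ cs J then (csJ cs J).lift ⟨f, h2⟩ ⟨cs.simple j, hx⟩ else 1) =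
      f ⟨j, hj⟩ := fun j hj => by
    rw [dif_pos (simple_mem_WJ cs hj), ← (csJ cs J).lift_apply_simple h2 ⟨j, hj⟩]
    congr 1
    exact Subtype.ext (csJ_simple cs J ⟨j, hj⟩).symm
  refine ⟨fun x => if hx : x ∈ WJ cs J then (csJ cs J).lift ⟨f, h2⟩ ⟨x, hx⟩ else 1, cs'.lift ⟨_, h1⟩,
    fun x hx y hy => ?_, fun i => ?_, fun i => (h3 _ (C.mem i)).trans (hf i), fun j hj h4 => (h3 j hj).trans (hf' _ h4)⟩
  · rw [dif_pos hx, dif_pos hy, dif_pos (mul_mem hx hy), ← map_mul]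
    rfl
  · rw [← cs'.lift_apply_simple h1 i, hcs']
    rfl

section Mod

variable {π : W → Equiv.Perm (Fin (m + 1))} {ι : Equiv.Perm (Fin (m + 1)) →* W} (D : Mod cs J c π ι)
include D

theorem Mod.one : π 1 = 1 := by
  have h1 := D.mul 1 (one_mem _) 1 (one_mem _)
  rw [mul_one] at h1
  exact left_eq_mul.1 h1

theorem Mod.inv {x : W} (hx : x ∈ WJ cs J) : π x⁻¹ = (π x)⁻¹ := by
  rw [eq_inv_iff_mul_eq_one, ← D.mul _ (inv_mem hx) _ hx, inv_mul_cancel, D.one]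

theorem Mod.cj {u x : W} (hu : u ∈ WJ cs J) (hx : x ∈ WJ cs J) : π (u * x * u⁻¹) = π u * π x * (π u)⁻¹ := by
  rw [D.mul _ (mul_mem hu hx) _ (inv_mem hu), D.mul _ hu _ hx, D.inv hu]

theorem Mod.mem_of {K : Set I} (hK : K ⊆ J) (H : Subgroup (Equiv.Perm (Fin (m + 1))))
    (hH : ∀ k ∈ K, π (cs.simple k) ∈ H) {x : W} (hx : x ∈ WJ cs K) : π x ∈ H := by
  unfold WJ at hx
  induction hx using Subgroup.closure_induction with
  | mem v hv =>
    obtain ⟨k, hk, rfl⟩ := hv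
    exact hH k hk
  | one => rw [D.one]; exact one_mem _
  | mul v w hv hw ih1 ih2 =>
    rw [D.mul _ (WJ_mono cs hK hv) _ (WJ_mono cs hK hw)]
    exact mul_mem ih1 ih2
  | inv v hv ih =>
    rw [D.inv (WJ_mono cs hK hv)]
    exact inv_mem ih

theorem Mod.rest {b : W} (hb : b ∈ WJ cs (J \ Set.range c)) : π b = 1 :=
  Subgroup.mem_bot.1 (D.mem_of Set.sdiff_subset ⊥ (fun k hk => Subgroup.mem_bot.2 (D.out k hk.1 hk.2)) hb)

theorem Mod.mem_Yq {K : Set I} (hK : K ⊆ J) {x : W} (hx : x ∈ WJ cs K) : π x ∈ Yq fun i => c i ∉ K := by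
  refine D.mem_of hK _ (fun k hk => ?_) hx
  by_cases h1 : k ∈ Set.range c
  · obtain ⟨i, rfl⟩ := h1
    rw [D.smp]
    exact adj_mem_Yq (not_not.2 hk)
  · rw [D.out k (hK hk) h1]
    exact one_mem _

theorem Mod.ι_mem {K : Set I} {q : Fin m → Prop} (hq : ∀ i, ¬ q i → c i ∈ K) {σ : Equiv.Perm (Fin (m + 1))}
    (hσ : σ ∈ Yq q) : ι σ ∈ WJ cs K := by
  have h1 : Subgroup.closure {σ | ∃ j, ¬ q j ∧ S2530.adj m j = σ} ≤ (WJ cs K).comap ι := by
    rw [Subgroup.closure_le]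
    rintro _ ⟨j, hj, rfl⟩
    change ι _ ∈ WJ cs K
    rw [D.adj]
    exact simple_mem_WJ cs (hq j hj)
  exact h1 (Yq_le q hσ)

theorem Mod.ι_mem' (σ : Equiv.Perm (Fin (m + 1))) : ι σ ∈ WJ cs (Set.range c) :=
  D.ι_mem (q := fun _ => False) (fun i _ => Set.mem_range_self i) fun _ hi => hi.elim

variable (C : Chain M J c)
include C

theorem Mod.ι_memJ (σ : Equiv.Perm (Fin (m + 1))) : ι σ ∈ WJ cs J := WJ_mono cs C.sub (D.ι_mem' σ)

theorem Mod.π_ι (σ : Equiv.Perm (Fin (m + 1))) : π (ι σ) = σ := by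
  have h1 : σ ∈ Subgroup.closure {σ | ∃ j, ¬ False ∧ S2530.adj m j = σ} :=
    Yq_le (fun _ => False) fun _ hi => hi.elim
  induction h1 using Subgroup.closure_induction with
  | mem v hv =>
    obtain ⟨j, -, rfl⟩ := hv
    rw [D.adj, D.smp]
  | one => rw [map_one, D.one]
  | mul v w _ _ ih1 ih2 => rw [map_mul, D.mul _ (D.ι_memJ C v) _ (D.ι_memJ C w), ih1, ih2]
  | inv v _ ih => rw [map_inv, D.inv (D.ι_memJ C v), ih]

theorem Mod.ι_π {K : Set I} (hK : K ⊆ Set.range c) {a : W} (ha : a ∈ WJ cs K) : ι (π a) = a := by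
  unfold WJ at ha
  induction ha using Subgroup.closure_induction with
  | mem v hv =>
    obtain ⟨k, hk, rfl⟩ := hv
    obtain ⟨i, rfl⟩ := hK hk
    rw [D.smp, D.adj]
  | one => rw [D.one, map_one]
  | mul v w hv hw ih1 ih2 =>
    rw [D.mul _ (WJ_mono cs (hK.trans C.sub) hv) _ (WJ_mono cs (hK.trans C.sub) hw), map_mul, ih1, ih2]
  | inv v hv ih => rw [D.inv (WJ_mono cs (hK.trans C.sub) hv), map_inv, ih]

theorem Mod.π_mul (σ : Equiv.Perm (Fin (m + 1))) {b : W} (hb : b ∈ WJ cs (J \ Set.range c)) : π (ι σ * b) = σ := by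
  rw [D.mul _ (D.ι_memJ C σ) _ (WJ_mono cs Set.sdiff_subset hb), D.π_ι C, D.rest hb, mul_one]

theorem Mod.dec {K : Set I} (hK : K ⊆ J) {x : W} (hx : x ∈ WJ cs K) :
    ∃ b ∈ WJ cs (K \ Set.range c), x = ι (π x) * b := by
  have h1 : Cm cs (K ∩ Set.range c) (K \ Set.range c) := fun i hi j hj => C.cm i hi.2 j ⟨hK hj.1, hj.2⟩
  obtain ⟨a, ha, b, hb, rfl⟩ := h1.exists_mul (x := x) (by rwa [Set.inter_union_sdiff])
  refine ⟨b, hb, ?_⟩
  rw [← D.ι_π C Set.inter_subset_right ha, D.π_mul C _ (WJ_mono cs (Set.sdiff_subset_sdiff_left hK) hb)]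

theorem Mod.cut {x : W} (hx : x ∈ WJ cs J) (i : Fin m) : x ∈ WJ cs (J \ {c i}) ↔ π x ∈ Yq (· = i) := by
  refine ⟨fun h1 j hj => D.mem_Yq Set.sdiff_subset h1 j (fun h2 => h2.2 (congrArg c hj)), fun h1 => ?_⟩
  obtain ⟨b, hb, e⟩ := D.dec C subset_rfl hx
  rw [e]
  exact mul_mem (D.ι_mem (fun j hj => Set.mem_sdiff_singleton.2 ⟨C.mem j, fun e => hj (C.inj e)⟩) h1)
    (WJ_mono cs (Set.sdiff_subset_sdiff_right (Set.singleton_subset_iff.2 (Set.mem_range_self i))) hb)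

theorem Mod.const {K : Set I} (hK : K ⊆ J) {S : Set W} (hB : ∀ i, Big cs J (J \ {c i}) K S) {β : Type*}
    (g : Fin (m + 1) → β) (h1 : ∀ k ∈ K, π (cs.simple k) ∈ St g) (h2 : ∀ w ∈ S, w ∈ WJ cs J → π w ∈ St g)
    (a b : Fin (m + 1)) : g a = g b := by
  by_contra hne
  obtain ⟨τ, i, hτ⟩ := exists_cut g hne
  have h3 : ∀ x ∈ WJ cs J, π x ∈ St g → ι τ⁻¹ * x * (ι τ⁻¹)⁻¹ ∈ WJ cs (J \ {c i}) := fun x hx h4 => by
    have h5 := D.ι_memJ C τ⁻¹
    rw [D.cut C (mul_mem (mul_mem h5 hx) (inv_mem h5)), D.cj h5 hx, D.π_ι C, inv_inv]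
    exact hτ _ h4
  exact hB i _ (D.ι_memJ C τ⁻¹)
    ⟨fun k hk => h3 _ (simple_mem_WJ cs (hK hk)) (h1 k hk), fun w hw hw' => h3 w hw' (h2 w hw hw')⟩

end Mod

theorem Chain.trans' (C : Chain M J c) (H : Subgroup W) (hB : ∀ i, Big cs J (J \ {c i}) ∅ H) (i₀ : Fin m)
    (hi : (i₀ : ℕ) = 0 ∨ (i₀ : ℕ) + 1 = m) {w : W} (hw : w ∈ WJ cs J) :
    ∃ v ∈ H, v ∈ WJ cs J ∧ v⁻¹ * w ∈ WJ cs (J \ {c i₀}) := by
  obtain ⟨π, ι, D⟩ := C.mod (cs := cs)
  have key : ∀ a₀ : Fin (m + 1), ∃ v ∈ H, v ∈ WJ cs J ∧ π (v⁻¹ * w) a₀ = a₀ := by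
    intro a₀
    have h1 := D.const C (Set.empty_subset J) hB (fun a => ∃ v ∈ H, v ∈ WJ cs J ∧ π v a₀ = a)
      (fun _ hk => hk.elim) (fun u hu hu' a => propext ⟨?_, ?_⟩) a₀ (π w a₀)
    · obtain ⟨v, hv, hv', e⟩ : ∃ v ∈ H, v ∈ WJ cs J ∧ π v a₀ = π w a₀ :=
        h1 ▸ ⟨1, one_mem _, one_mem _, by rw [D.one, Equiv.Perm.one_apply]⟩
      refine ⟨v, hv, hv', ?_⟩
      rw [D.mul _ (inv_mem hv') _ hw, D.inv hv', Equiv.Perm.mul_apply, ← e, ← Equiv.Perm.mul_apply, inv_mul_cancel,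
        Equiv.Perm.one_apply]
    · rintro ⟨v, hv, hv', e⟩
      refine ⟨u⁻¹ * v, mul_mem (inv_mem hu) hv, mul_mem (inv_mem hu') hv', ?_⟩
      rw [D.mul _ (inv_mem hu') _ hv', D.inv hu', Equiv.Perm.mul_apply, e, ← Equiv.Perm.mul_apply, inv_mul_cancel,
        Equiv.Perm.one_apply]
    · rintro ⟨v, hv, hv', e⟩
      exact ⟨u * v, mul_mem hu hv, mul_mem hu' hv', by rw [D.mul _ hu' _ hv', Equiv.Perm.mul_apply, e]⟩
  have h2 : ∃ a₀ : Fin (m + 1), ∀ σ : Equiv.Perm (Fin (m + 1)), σ a₀ = a₀ → σ ∈ Yq (· = i₀) := by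
    have h3 : ∀ (σ : Equiv.Perm (Fin (m + 1))) (a₀ a : Fin (m + 1)), σ a₀ = a₀ → ((σ a : ℕ) = a₀ ↔ (a : ℕ) = a₀) :=
      fun σ a₀ a e => by rw [← Fin.ext_iff, ← Fin.ext_iff, ← σ.apply_eq_iff_eq (x := a), e]
    rcases hi with hi | hi
    · refine ⟨0, fun σ e j hj a => ?_⟩
      have h4 := h3 σ 0 a e
      rw [Fin.val_zero] at h4
      rw [hj]
      omega
    · refine ⟨Fin.last m, fun σ e j hj a => ?_⟩
      have h4 := h3 σ _ a e
      rw [Fin.val_last] at h4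
      have h5 := a.2
      have h6 := (σ a).2
      rw [hj]
      omega
  obtain ⟨a₀, h2⟩ := h2
  obtain ⟨v, hv, hv', e⟩ := key a₀
  exact ⟨v, hv, hv', (D.cut C (mul_mem (inv_mem hv') hw) i₀).2 (h2 _ e)⟩

theorem span_empty : Span cs ∅ := by
  intro f _ h0 x hx
  have h1 := h0 ∅ subset_rfl
  rw [WJ_empty'] at hx h1
  rw [Subgroup.mem_bot.1 hx, ← h1, H116.HeckeU.mu_bot]

theorem ellW_empty (J : Set I) : EllW cs J ∅ 1 := ⟨one_mem _, fun _ hj => hj.elim⟩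

theorem mu_eq_zero {G : Type*} [Group G] [Finite G] (H : Subgroup G) (f : G → ℂ) : mu H f = 0 ↔ ∑ᶠ x : H, f x = 0 := by
  unfold mu
  exact mul_eq_zero.trans (or_iff_right (inv_ne_zero card_ne_zero'))

theorem Chain.span' (C : Chain M J c) (hS : Span cs (J \ Set.range c)) : Span cs J := by
  classical
  obtain ⟨π, ι, D⟩ := C.mod (cs := cs)
  intro f hf h0 x hx
  have hle : WJ cs (J \ Set.range c) ≤ WJ cs J := WJ_mono cs Set.sdiff_subset
  obtain ⟨b, hb, e⟩ := D.dec C subset_rfl hx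
  rw [e]
  refine spanS (fun σ => f (ι σ * b)) (fun σ τ => ?_) (fun q => ?_) _
  · rw [← hf (ι σ * b) (mul_mem (D.ι_memJ C σ) (hle hb)) (ι τ) (D.ι_memJ C τ), map_mul, map_mul, map_inv]
    congr 1
    rw [mul_assoc, C.cm.comm (inv_mem (D.ι_mem' τ)) hb]
    group
  · refine hS (fun b => ∑ᶠ σ : Yq q, f (ι σ * b)) (fun x hx y hy => finsum_congr fun σ => ?_) (fun K hK => ?_) b hb
    · rw [← hf (ι σ * x) (mul_mem (D.ι_memJ C σ) (hle hx)) y (hle hy)]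
      congr 1
      rw [← mul_assoc, ← mul_assoc, C.cm.comm (D.ι_mem' σ) hy]
      group
    · have h1 : K ∪ c '' {i | ¬ q i} ⊆ J := Set.union_subset (hK.trans Set.sdiff_subset) (by
        rintro _ ⟨i, -, rfl⟩
        exact C.mem i)
      have h2 := h0 _ h1
      have : Fintype (WJ cs K) := Fintype.ofFinite _
      have : Fintype (WJ cs (K ∪ c '' {i | ¬ q i})) := Fintype.ofFinite _
      rw [mu_eq_zero] at h2 ⊢
      simp only [finsum_eq_sum_of_fintype] at h2 ⊢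
      rw [← h2, ← Fintype.sum_prod_type' (fun (y : WJ cs K) (σ : Yq q) => f (ι σ * y))]
      refine Fintype.sum_bijective (fun z => ⟨ι z.2 * z.1, mul_mem (D.ι_mem (fun i hi => Or.inr ⟨i, hi, rfl⟩) z.2.2)
        (WJ_mono cs Set.subset_union_left z.1.2)⟩) ⟨?_, ?_⟩ _ _ fun _ => rfl
      · rintro ⟨y, σ⟩ ⟨y', σ'⟩ e
        have e1 : ι σ * y = ι σ' * y' := congrArg Subtype.val e
        have e2 : (σ : Equiv.Perm (Fin (m + 1))) = σ' := by
          rw [← D.π_mul C σ (WJ_mono cs hK y.2), e1, D.π_mul C σ' (WJ_mono cs hK y'.2)]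
        rw [e2] at e1
        exact Prod.ext (Subtype.ext (mul_left_cancel e1)) (Subtype.ext e2)
      · rintro ⟨z, hz⟩
        obtain ⟨y, hy, e⟩ := D.dec C h1 hz
        refine ⟨(⟨y, WJ_mono cs ?_ hy⟩, ⟨π z, fun i hi => D.mem_Yq h1 hz i ?_⟩), Subtype.ext e.symm⟩
        · rintro k ⟨h3 | ⟨i, -, rfl⟩, h4⟩
          · exact h3
          · exact absurd ⟨i, rfl⟩ h4
        · rintro (h3 | ⟨j, hj, h3⟩)
          · exact (hK h3).2 ⟨i, rfl⟩
          · exact hj (C.inj h3 ▸ hi)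

variable [DecidableEq I] {A : I → I → ℤ} {h : IsCartan M A}

theorem Chain.shape (C : Chain M J c) {K : Set I} (hK : K ⊆ J)
    (hB : ∀ i, Big cs J (J \ {c i}) K {w | Perm cs h K w}) :
    ∃ d, 0 < d ∧ d ∣ m + 1 ∧ ∀ i : Fin m, c i ∈ K ↔ ¬ d ∣ (i : ℕ) + 1 := by
  obtain ⟨π, ι, D⟩ := C.mod (cs := cs)
  have hr : ∀ a b : Fin (m + 1), (∀ i : Fin m, c i ∉ K → ((a : ℕ) ≤ i ↔ (b : ℕ) ≤ i)) ↔ ∃ y ∈ WJ cs K, π y a = b := by
    intro a b
    constructor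
    · intro hab
      refine ⟨ι (Equiv.swap a b), D.ι_mem (q := fun i => c i ∉ K) (fun i hi => not_not.1 hi) fun i hi x => ?_,
        by rw [D.π_ι C, Equiv.swap_apply_left]⟩
      rw [Equiv.swap_apply_def]
      split_ifs with h1 h2
      · rw [h1]
        exact (hab i hi).symm
      · rw [h2]
        exact hab i hi
      · rfl
    · rintro ⟨y, hy, rfl⟩ i hi
      exact (D.mem_Yq hK hy i hi a).symm
  have h1 : ∀ u ∈ WJ cs J, (∀ y, y ∈ WJ cs K ↔ u * y * u⁻¹ ∈ WJ cs K) → π u ∈ St fun a : Fin (m + 1) =>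
      Nat.card {b : Fin (m + 1) // ∀ i : Fin m, c i ∉ K → ((a : ℕ) ≤ i ↔ (b : ℕ) ≤ i)} := by
    intro u hu hn a
    symm
    refine Nat.card_congr (Equiv.subtypeEquiv (π u) fun b => ?_)
    rw [hr, hr]
    constructor
    · rintro ⟨y, hy, rfl⟩
      refine ⟨_, (hn y).1 hy, ?_⟩
      rw [D.cj hu (WJ_mono cs hK hy), ← Equiv.Perm.mul_apply, inv_mul_cancel_right, Equiv.Perm.mul_apply]
    · rintro ⟨y, hy, e⟩
      have h2 : u⁻¹ * y * u⁻¹⁻¹ ∈ WJ cs K := (hn _).2 (by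
        rwa [show u * (u⁻¹ * y * u⁻¹⁻¹) * u⁻¹ = y by group])
      refine ⟨_, h2, ?_⟩
      rw [D.cj (inv_mem hu) (WJ_mono cs hK hy), D.inv hu, inv_inv, Equiv.Perm.mul_apply, Equiv.Perm.mul_apply, e,
        ← Equiv.Perm.mul_apply, inv_mul_cancel, Equiv.Perm.one_apply]
  have h2 : ∀ u : W, (∀ i ∈ K, ∃ k ∈ K, rep cs h u (sr i) = sr k) → ∀ y ∈ WJ cs K, u * y * u⁻¹ ∈ WJ cs K :=
    fun u hu y hy => conj_mem_WJ (fun i hi => by
      obtain ⟨k, hk, e⟩ := hu i hi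
      rw [RootAmalgam.simple_conj cs h e]
      exact simple_mem_WJ cs hk) hy
  have h3 := D.const C hK hB _
    (fun k hk => h1 _ (simple_mem_WJ cs (hK hk)) fun y => by
      rw [Subgroup.mul_mem_cancel_right _ (inv_mem (simple_mem_WJ cs hk)),
        Subgroup.mul_mem_cancel_left _ (simple_mem_WJ cs hk)])
    fun w hw hw' => h1 w hw' fun y => ⟨h2 w hw.2 y, fun hy => by
      have h4 := h2 w⁻¹ hw.1 _ hy
      rwa [show w⁻¹ * (w * y * w⁻¹) * w⁻¹⁻¹ = y by group] at h4⟩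
  obtain ⟨h4, h5, h6⟩ := shapeS (fun i => c i ∉ K) fun a => h3 a 0
  exact ⟨_, h4, h5, fun i => by rw [← h6, not_not]⟩

include h in
theorem Chain.trans (C : Chain M J c) (H : Subgroup W) (hB : ∀ i, Big cs J (J \ {c i}) ∅ H) (i₀ : Fin m)
    (hi : (i₀ : ℕ) = 0 ∨ (i₀ : ℕ) + 1 = m) {w : W} (hw : w ∈ WJ cs J) :
    ∃ v ∈ H, v ∈ WJ cs J ∧ v⁻¹ * w ∈ WJ cs (J \ {c i₀}) :=
  have _ := h
  C.trans' H hB i₀ hi hw

include h in
theorem Chain.span (C : Chain M J c) (hS : Span cs (J \ Set.range c)) : Span cs J :=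
  have _ := h
  C.span' hS

include h in
theorem WJ_inter' {K L : Set I} {w : W} (hK : w ∈ WJ cs K) (hL : w ∈ WJ cs L) : w ∈ WJ cs (K ∩ L) :=
  Tits.Ext.WJ_inter (fun i j e => by
    by_contra hne
    exact simple_not_mem (cs := cs) h (K := {j}) hne (e ▸ simple_mem_WJ cs rfl)) hK hL

include h in
/-- add a component: `c₀ * (Coxeter element of the chain)` -/
theorem Chain.ellW (C : Chain M J c) {E : Set I} (hE : E ⊆ J \ Set.range c) {c₀ : W}
    (h0 : EllW cs (J \ Set.range c) E c₀) : EllW cs J (E ∪ Set.range c) (c₀ * cs.wordProd (List.ofFn c)) := by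
  obtain ⟨π, ι, D⟩ := C.mod (cs := cs)
  have hle : WJ cs (J \ Set.range c) ≤ WJ cs J := WJ_mono cs Set.sdiff_subset
  have h1 : cs.wordProd (List.ofFn c) = ι (List.ofFn (S2530.adj m)).prod := by
    rw [map_list_prod, List.map_ofFn, wordProd, List.map_ofFn]
    congr 2
    exact funext fun i => (D.adj i).symm
  have h2 : c₀ ∈ WJ cs (J \ Set.range c) := WJ_mono cs hE h0.1
  rw [h1, ← C.cm.comm (D.ι_mem' _) h2]
  refine ⟨mul_mem (WJ_mono cs Set.subset_union_right (D.ι_mem' _)) (WJ_mono cs Set.subset_union_left h0.1), ?_⟩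
  rintro j (hj | ⟨i, rfl⟩) u hu h3
  · obtain ⟨b, hb, e⟩ := D.dec C subset_rfl hu
    apply h0.2 j hj b hb
    have h4 : b * c₀ * b⁻¹ ∈ WJ cs (J \ Set.range c) := mul_mem (mul_mem hb h2) (inv_mem hb)
    have h5 : u * (ι (List.ofFn (S2530.adj m)).prod * c₀) * u⁻¹ =
        ι (π u * (List.ofFn (S2530.adj m)).prod * (π u)⁻¹) * (b * c₀ * b⁻¹) := by
      rw [map_mul, map_mul, map_inv, mul_assoc (_ * _) _ (b * c₀ * b⁻¹), C.cm.comm (inv_mem (D.ι_mem' _)) h4]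
      generalize π u = τ at e
      rw [e]
      calc ι τ * b * (ι (List.ofFn (S2530.adj m)).prod * c₀) * (ι τ * b)⁻¹
          = ι τ * (b * ι (List.ofFn (S2530.adj m)).prod) * c₀ * b⁻¹ * (ι τ)⁻¹ := by group
        _ = _ := by rw [← C.cm.comm (D.ι_mem' _) hb]; group
    have h6 : Set.range c ⊆ J \ {j} := fun k hk => ⟨C.sub hk, fun e => (hE hj).2 ((show k = j from e) ▸ hk)⟩
    rw [h5, Subgroup.mul_mem_cancel_left _ (WJ_mono cs h6 (D.ι_mem' _))] at h3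
    have h7 : (J \ Set.range c) ∩ (J \ {j}) ⊆ (J \ Set.range c) \ {j} := fun k hk => ⟨hk.1, hk.2.2⟩
    exact WJ_mono cs h7 (WJ_inter' (h := h) h4 h3)
  · have h4 := mul_mem (D.ι_memJ C (List.ofFn (S2530.adj m)).prod) (hle h2)
    rw [D.cut C (mul_mem (mul_mem hu h4) (inv_mem hu)), D.cj hu h4, D.π_mul C _ h2] at h3
    exact not_cut _ i h3

variable {Y : Type*} [Group Y] {p : ℕ} {T : Subgroup Y} {n : I → Y} {X : (I → ℤ) → Subgroup Y}

/-- the stabiliser of a character of the torus as a subgroup -/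
def StabG (R : RGD cs h p T n X) (hT : ∀ a ∈ T, ∀ b ∈ T, a * b = b * a) (θ : Y → ℂ) : Subgroup W where
  carrier := Stab R θ
  one_mem' := fun g hg t ht => by rw [mul_assoc, ← hT g hg.mem_of_one t ht, inv_mul_cancel_left]
  mul_mem' := fun {v w} hv hw g hg t ht => by
    obtain ⟨k, hk⟩ := exists_rp cs R.nsys v
    have h1 := hk.inv.mul hg
    rw [inv_mul_cancel_left] at h1
    have h2 : k⁻¹ * t * k ∈ T := by
      have h3 := (Subgroup.mem_normalizer_iff.1 hk.inv.mem_normalizer t).1 ht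
      rwa [inv_inv] at h3
    rw [← hv k hk t ht, ← hw _ h1 _ h2]
    congr 1
    group
  inv_mem' := fun {w} hw g hg t ht => by
    have h1 := hg.inv
    rw [inv_inv] at h1
    have h2 : g⁻¹ * t * g ∈ T := by
      have h3 := (Subgroup.mem_normalizer_iff.1 hg.inv.mem_normalizer t).1 ht
      rwa [inv_inv] at h3
    rw [← hw _ h1 _ h2]
    congr 1
    group

theorem Chain.theta (R : RGD cs h p T n X) (hT : ∀ a ∈ T, ∀ b ∈ T, a * b = b * a) (C : Chain M J c) {θ : Y → ℂ}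
    (hB : ∀ i, Big cs J (J \ {c i}) ∅ (Stab R θ)) (i₀ : Fin m) (hi : (i₀ : ℕ) = 0 ∨ (i₀ : ℕ) + 1 = m)
    {t : Y} (ht : t ∈ T) (hc : ∀ j ∈ J, j ≠ c i₀ → n j * t = t * n j) {w : W} (hw : w ∈ WJ cs J) {x : Y}
    (hx : Rp cs R.nsys w x) : θ (x * t * x⁻¹) = θ t := by
  obtain ⟨v, hv, -, hz⟩ := C.trans' (StabG R hT θ) hB i₀ hi hw
  have key : ∀ z ∈ WJ cs (J \ {c i₀}), ∃ k, Rp cs R.nsys z k ∧ k ∈ Subgroup.centralizer {t} := by
    intro z hz
    unfold WJ at hz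
    induction hz using Subgroup.closure_induction with
    | mem v hv =>
      obtain ⟨j, hj, rfl⟩ := hv
      exact ⟨n j, rp_simple cs R.nsys j, Subgroup.mem_centralizer_singleton_iff.2 (hc j hj.1 hj.2)⟩
    | one => exact ⟨1, rp_one, one_mem _⟩
    | mul v w _ _ ih1 ih2 =>
      obtain ⟨a, ha, ha'⟩ := ih1
      obtain ⟨b, hb, hb'⟩ := ih2
      exact ⟨a * b, ha.mul hb, mul_mem ha' hb'⟩
    | inv v _ ih =>
      obtain ⟨a, ha, ha'⟩ := ih
      exact ⟨a⁻¹, ha.inv, inv_mem ha'⟩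
  obtain ⟨k, hk, hk'⟩ := key _ hz
  have h1 := hk.mul hx.inv
  rw [mul_inv_cancel_right] at h1
  rw [← inv_mem hv _ h1 t ht]
  congr 1
  have h2 := Subgroup.mem_centralizer_singleton_iff.1 hk'
  calc x * t * x⁻¹ = x * k⁻¹ * (k * t) * x⁻¹ := by group
    _ = _ := by rw [h2]; group

end Cfsg.Agent.VAN.HC
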