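import Cfsg.Agent.VAN.HC.Sup
import Cfsg.Agent.H116.HeckeU.Equiv
import Cfsg.Agent.H116.RatB0.StRow
import Cfsg.Agent.H774.CC.Newton
import Cfsg.Agent.H732.VZ.Close
import Cfsg.Agent.KFacts.RgdSyl
import Cfsg.Agent.ODD.Hk.Par
import Cfsg.Agent.Characters.Linear

/-!
# S4942: the constituents of `1_B^G` and the characters of `W` (helper82)

* `exists_cor`, `Cor.eq_one`, `val_sgn` (Steinberg character);
* `res` : a residue of a building is a building; `equiv_rel` : the correspondence for `P_J` and `W_J`.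
-/

set_option autoImplicit false
set_option linter.unusedSectionVars false

open scoped ComplexConjugate Pointwise
open Cfsg

namespace Cfsg.Agent.VAN.HC

open Cfsg.Agent.OddOrderCharacters.Clifford Cfsg.Agent.Characters Cfsg.Agent.H53.HC Cfsg.Agent.H641.Gow
  Cfsg.Agent.H45.GG

open CoxeterSystem Cfsg.Agent.ChevalleyStructure.CoxeterGeom Cfsg.Agent.Tits.Roots Cfsg.Agent.Tits.Core
  Cfsg.Agent.Tits.Exchange Cfsg.Agent.Nodes.Reps Cfsg.Agent.Nodes.BNOf Cfsg.Agent.Nodes.StabComb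
  Cfsg.Agent.Nodes.Bruhat Cfsg.Agent.Nodes.OppDec Cfsg.Agent.Nodes.LeviDec
open Cfsg.Agent.H246.Dl (classInner_symm_ne PJ_mono)
open Cfsg.Agent.H439.CC (mu)
open Cfsg.Agent.ODD.Hk (csJ csJ_simple csJ_length mem_WJ_csJ)

section abs

variable {G : Type*} [Group G]

theorem mu_sum (H : Subgroup G) [Fintype H] (f : G → ℂ) : mu H f = (Nat.card H : ℂ)⁻¹ * ∑ x : H, f x := by
  unfold mu
  rw [finsum_eq_sum_of_fintype]

theorem mu_congr {H : Subgroup G} {f f' : G → ℂ} (e : ∀ x ∈ H, f x = f' x) : mu H f = mu H f' := by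
  unfold mu
  congr 1
  exact finsum_congr fun x => e x x.2

theorem mu_rel [Finite G] {K H : Subgroup G} (hK : K ≤ H) (f : H → ℂ) (F : G → ℂ) (e : ∀ x : H, F x = f x) :
    mu (K.subgroupOf H) f = mu K F := by
  have : Fintype K := Fintype.ofFinite _
  have : Fintype (K.subgroupOf H) := Fintype.ofFinite _
  rw [mu_sum, mu_sum, card_rel hK]
  congr 1
  exact Fintype.sum_equiv (Subgroup.subgroupOfEquivOfLe hK).toEquiv _ _ fun t => (e _).symm

theorem mu_lin [Finite G] (H : Subgroup G) {ι : Type*} [Fintype ι] (a : ι → ℂ) (f : ι → G → ℂ) :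
    mu H (fun x => ∑ i, a i * f i x) = ∑ i, a i * mu H (f i) := by
  have : Fintype H := Fintype.ofFinite _
  simp only [mu_sum]
  rw [Finset.sum_comm, Finset.mul_sum]
  refine Finset.sum_congr rfl fun i _ => ?_
  rw [← Finset.mul_sum]
  ring

theorem mu_sub [Finite G] (H : Subgroup G) (f f' : G → ℂ) : mu H (f - f') = mu H f - mu H f' := by
  have : Fintype H := Fintype.ofFinite _
  simp only [mu_sum, Pi.sub_apply, Finset.sum_sub_distrib, mul_sub]

theorem mu_one [Finite G] (H : Subgroup G) : mu H (fun _ => 1) = 1 := by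
  have : Fintype H := Fintype.ofFinite _
  rw [mu_sum, Finset.sum_const, Finset.card_univ, nsmul_eq_mul, mul_one, ← Nat.card_eq_fintype_card,
    inv_mul_cancel₀ card_ne_zero']

theorem inner_ind_one [Fintype G] (H : Subgroup G) {η : G → ℂ} (hη : IsCharacter G η) :
    classInner (indFun H 1) η = mu H η := by
  have : Fintype H := Fintype.ofFinite _
  obtain ⟨k, hk⟩ := H116.HeckeU.mu_nat H hη
  have h1 : conj (classInner (indFun H 1) η) = mu H η := by
    rw [classInner_indFun H _ _ (Core.isCharacter_isClassFunction hη), Core.classInner_conj_symm, classInner_apply,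
      mu_sum]
    simp
  rw [hk] at h1 ⊢
  rw [← Complex.conj_conj (classInner _ _), h1, Complex.conj_natCast]

theorem ind_one_apply [Fintype G] (H : Subgroup G) (g : G) :
    indFun H 1 g = (Nat.card {x : G // x⁻¹ * g * x ∈ H} : ℂ) / Nat.card H := by
  classical
  rw [indFun_apply, div_eq_inv_mul]
  congr 1
  have h1 : ∀ x : G, extendByZero H 1 (x⁻¹ * g * x) = if x⁻¹ * g * x ∈ H then 1 else 0 := by
    intro x
    split_ifs with hx
    · rw [ext_apply_mem _ _ _ hx]
      rfl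
    · exact ext_apply_not_mem _ _ _ hx
  rw [Finset.sum_congr rfl fun x _ => h1 x, Finset.sum_boole, Nat.card_eq_fintype_card, Fintype.card_subtype]

/-- the expansion of a permutation character -/
theorem sum_mu [Fintype G] [Fintype (IrrCharacter G)] (H : Subgroup G) (g : G) :
    ∑ η : IrrCharacter G, (η : G → ℂ) g * mu H (η : G → ℂ) =
      (Nat.card {x : G // x⁻¹ * g * x ∈ H} : ℂ) / Nat.card H := by
  rw [← ind_one_apply, congrFun (Core.classFunction_eq_sum (isClassFunction_indFun H 1)) g, Finset.sum_apply]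
  refine Finset.sum_congr rfl fun η _ => ?_
  rw [Pi.smul_apply, smul_eq_mul, inner_ind_one H (Core.isIrr_isCharacter η.2), mul_comm]

theorem mu_mono [Finite G] {K H : Subgroup G} (hK : K ≤ H) {η : G → ℂ} (hη : IsCharacter G η) (h0 : mu K η = 0) :
    mu H η = 0 := by
  have : Fintype K := Fintype.ofFinite _
  have : Fintype H := Fintype.ofFinite _
  by_contra hne
  rw [mu_sum] at h0 hne
  have h1 : H246.Dl.HasFix η H := H246.Dl.hasFix_iff.2 (right_ne_zero_of_mul hne)
  exact H246.Dl.hasFix_iff.1 (h1.mono hη hK) ((mul_eq_zero.1 h0).resolve_left (inv_ne_zero card_ne_zero'))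

theorem eq_one_of_mu_top [Finite G] {χ : G → ℂ} (hχ : IsIrrCharacter G χ) (h0 : mu ⊤ χ ≠ 0) : χ = fun _ => 1 := by
  have : Fintype G := Fintype.ofFinite _
  have : Fintype (⊤ : Subgroup G) := Fintype.ofFinite _
  by_contra hne
  have h1 := Core.classInner_irr_ne hχ Core.isIrr_one hne
  apply h0
  rw [mu_sum]
  rw [classInner_apply] at h1
  have h2 := (mul_eq_zero.1 h1).resolve_left (inv_ne_zero card_ne_zero')
  rw [← sum_eq_sum_subgroup ⊤ χ fun g hg => absurd (Subgroup.mem_top g) hg]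
  simp only [Pi.one_apply, map_one, mul_one] at h2
  rw [h2, mul_zero]

end abs

section bldg

variable {I W C : Type*} {M : CoxeterMatrix I} [Group W] [Finite W] [Finite I] {cs : CoxeterSystem M W}

omit [Finite W] [Finite I] in
theorem WJ_empty' : WJ cs (∅ : Set I) = ⊥ := by
  unfold WJ
  rw [Set.image_empty, Subgroup.closure_empty]

/-- a residue as a building -/
noncomputable def res (Δ : Bldg cs C) (J : Set I) (x₀ : C) : Bldg (csJ cs J) (Δ.Res J x₀) where
  δ x y := ⟨Δ.δ x y, Δ.δ_mem_of_mem_Res x.2 y.2⟩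
  eq_one x y := by
    rw [Subtype.ext_iff, Subtype.ext_iff]
    exact Δ.eq_one x y
  symm x y := Subtype.ext (Δ.symm x y)
  step x y z i h := by
    have h1 : Δ.δ y z = cs.simple i := by rw [← csJ_simple, ← h]
    rcases Δ.step x y z i h1 with h2 | h2
    · left
      apply Subtype.ext
      rw [Subgroup.coe_mul, csJ_simple]
      exact h2
    · right
      exact Subtype.ext h2
  step_lt x y z i h hl := by
    have h1 : Δ.δ y z = cs.simple i := by rw [← csJ_simple, ← h]
    rw [csJ_length, csJ_length, Subgroup.coe_mul, csJ_simple] at hl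
    apply Subtype.ext
    rw [Subgroup.coe_mul, csJ_simple]
    exact Δ.step_lt x y z i h1 hl
  exists_step x y i := by
    obtain ⟨z, h1, h2⟩ := Δ.exists_step x y i
    have hz : z ∈ Δ.Res J x₀ := Δ.mem_Res_trans y.2 (by rw [Bldg.mem_Res, h1]; exact simple_mem_WJ cs i.2)
    refine ⟨⟨z, hz⟩, Subtype.ext ?_, Subtype.ext ?_⟩
    · rw [csJ_simple]
      exact h1
    · rw [Subgroup.coe_mul, csJ_simple]
      exact h2

theorem equiv_res [Finite C] (Δ : Bldg cs C) {G : Type*} [Group G] [Finite G] [MulAction G C]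
    (hiso : ∀ (g : G) (x y : C), Δ.δ (g • x) (g • y) = Δ.δ x y)
    (htr : ∀ x y x' y' : C, Δ.δ x y = Δ.δ x' y' → ∃ g : G, g • x = x' ∧ g • y = y') (x₀ : C) (P : Set I → Subgroup G)
    (hP : ∀ (J : Set I) (g : G), g ∈ P J ↔ Δ.δ x₀ (g • x₀) ∈ WJ cs J) (J : Set I) :
    ∃ e : {ψ : IrrCharacter (P J) // mu ((P ∅).subgroupOf (P J)) (ψ : P J → ℂ) ≠ 0} ≃ IrrCharacter (WJ cs J),
      ∀ ψ, ∀ K ⊆ J, mu ((P K).subgroupOf (P J)) (ψ.1 : P J → ℂ) =
        mu ((WJ cs K).subgroupOf (WJ cs J)) (e ψ : WJ cs J → ℂ) := by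
  have hm : ∀ (g : P J) (x : Δ.Res J x₀), (g : G) • (x : C) ∈ Δ.Res J x₀ := fun g x =>
    Δ.mem_Res_trans ((hP J g).1 g.2) (by rw [Bldg.mem_Res, hiso]; exact x.2)
  let _ : MulAction (P J) (Δ.Res J x₀) :=
    { smul := fun g x => ⟨(g : G) • (x : C), hm g x⟩
      one_smul := fun x => Subtype.ext (one_smul G (x : C))
      mul_smul := fun a b x => Subtype.ext (mul_smul (a : G) (b : G) (x : C)) }
  have hs : ∀ (g : P J) (x : Δ.Res J x₀), ((g • x : Δ.Res J x₀) : C) = (g : G) • (x : C) := fun _ _ => rfl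
  have h1 := H116.HeckeU.equiv_bldg (res Δ J x₀) (G := P J) (fun g x y => Subtype.ext (hiso g x y)) ?_
    ⟨x₀, Δ.self_mem_Res J x₀⟩ (fun K => (P (Subtype.val '' K)).subgroupOf (P J)) ?_
  · rw [Set.image_empty] at h1
    obtain ⟨e, he⟩ := h1
    refine ⟨e, fun ψ K hK => ?_⟩
    have h2 := he ψ (Subtype.val ⁻¹' K)
    have h3 : Subtype.val '' (Subtype.val ⁻¹' K : Set J) = K := by
      rw [Subtype.image_preimage_coe]
      exact Set.inter_eq_right.2 hK
    have h4 : WJ (csJ cs J) (Subtype.val ⁻¹' K) = (WJ cs K).subgroupOf (WJ cs J) := by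
      ext w
      rw [mem_WJ_csJ, h3, Subgroup.mem_subgroupOf]
    rwa [h3, h4] at h2
  · intro x y x' y' hd
    obtain ⟨g, h2, h3⟩ := htr x y x' y' (congrArg Subtype.val hd)
    have h4 : g ∈ P J := by
      rw [hP]
      refine Δ.mem_Res_trans x'.2 ?_
      rw [Bldg.mem_Res, ← h2, hiso]
      exact Δ.mem_Res_symm x.2
    exact ⟨⟨g, h4⟩, Subtype.ext h2, Subtype.ext h3⟩
  · intro K g
    rw [mem_WJ_csJ, Subgroup.mem_subgroupOf, hP]
    rfl

end bldg

variable {I W Y : Type*} [Fintype I] [DecidableEq I] [Group W] [Group Y] {M : CoxeterMatrix I}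
  {cs : CoxeterSystem M W} {A : I → I → ℤ} {h : IsCartan M A} {p : ℕ} {T : Subgroup Y} {n : I → Y}
  {X : (I → ℤ) → Subgroup Y} [Finite W]

variable [Fintype Y] (R : RGD cs h p T n X) (hG : GG cs h T X = ⊤)
include R hG

theorem equiv_rel (J : Set I) :
    ∃ e : {ψ : IrrCharacter (PJ cs h T X J) //
        mu ((PJ cs h T X ∅).subgroupOf (PJ cs h T X J)) (ψ : PJ cs h T X J → ℂ) ≠ 0} ≃ IrrCharacter (WJ cs J),
      ∀ ψ, ∀ K ⊆ J, mu ((PJ cs h T X K).subgroupOf (PJ cs h T X J)) (ψ.1 : PJ cs h T X J → ℂ) =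
        mu ((WJ cs K).subgroupOf (WJ cs J)) (e ψ : WJ cs J → ℂ) := by
  obtain ⟨Δ, hiso, htr, hP⟩ := H116.HeckeU.exists_bldg_PJ R (H116.RatB0.hgen_of_GG R hG)
  exact equiv_res Δ hiso htr _ (fun J => PJ cs h T X J) hP J

omit hG in
theorem pser_one_iff {χ : Y → ℂ} : PSer cs h T X χ (fun _ => 1) ↔ mu (RGD.B cs h T X) χ ≠ 0 := by
  have : Fintype ↥(PJ cs h T X ∅) := Fintype.ofFinite _
  have : Fintype ↥(LJ cs h T X ∅) := Fintype.ofFinite _
  have : Fintype ↥(VJ cs h X ∅) := Fintype.ofFinite _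
  have : Fintype T := Fintype.ofFinite _
  have : Fintype (RGD.Sup X (RGD.Pos cs h)) := Fintype.ofFinite _
  have e : ∑ x : PJ cs h T X ∅, χ x = ∑ᶠ (t : T) (u : RGD.Sup X (RGD.Pos cs h)), χ (t * u) * conj (1 : ℂ) := by
    rw [sum_PJ R ∅ fun x => χ x]
    simp only [finsum_eq_sum_of_fintype, map_one, mul_one]
    refine Fintype.sum_equiv (MulEquiv.subgroupCongr LJ_empty).toEquiv _ _ fun l => ?_
    exact Fintype.sum_equiv (MulEquiv.subgroupCongr VJ_empty).toEquiv _ _ fun v => rfl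
  rw [← H705.Dl.PsRgd.PJ_empty R, mu_sum, mul_ne_zero_iff_left (inv_ne_zero card_ne_zero'), e]
  exact ⟨fun h => h.2, fun h => ⟨⟨rfl, fun _ _ _ _ => (mul_one _).symm⟩, h⟩⟩

variable {χ : Y → ℂ} (hχ : IsIrrCharacter Y χ)
include hχ

theorem exists_cor (hB : mu (RGD.B cs h T X) χ ≠ 0) : ∃ φ, IsIrrCharacter W φ ∧ Cor cs h T X χ φ := by
  obtain ⟨φ, hφ⟩ := H116.HeckeU.cmp_of_rgd R (H116.RatB0.hgen_of_GG R hG) ⟨χ, hχ⟩ hB
  exact ⟨φ, φ.2, hφ⟩

theorem Cor.eq_one (hc : Cor cs h T X χ fun _ => 1) : χ = fun _ => 1 := by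
  refine eq_one_of_mu_top hχ ?_
  rw [← hG, ← H705.Dl.PsRgd.PJ_univ, hc, mu_one]
  exact one_ne_zero

variable {φ : W → ℂ} (hφ : IsIrrCharacter W φ) (hc : Cor cs h T X χ φ)
include hφ hc

omit hG hχ in
theorem Cor.mu_B : mu (RGD.B cs h T X) χ = φ 1 := by
  rw [← H705.Dl.PsRgd.PJ_empty R, hc, WJ_empty', H116.HeckeU.mu_bot]

omit hG hχ in
theorem Cor.pser : PSer cs h T X χ fun _ => 1 := by
  rw [pser_one_iff R, hc.mu_B R hφ]
  exact Core.isIrr_apply_one_ne_zero hφ

/-- the degree of the Steinberg character -/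
theorem deg_sgn (h1 : φ 1 = 1) (hs : ∀ i, φ (cs.simple i) = -1) : χ 1 = Nat.card (RGD.Sup X (RGD.Pos cs h)) := by
  classical
  obtain ⟨f, rfl⟩ := Linear.exists_hom_of_isIrrCharacter hφ h1
  obtain ⟨h2, h3⟩ := H116.RatB0.exists_char_PJ R hG
  have h4 : ∀ K : Finset I, classInner χ (fixedPointCharacter (PJ cs h T X (K : Set I))) = if K = ∅ then 1 else 0 := by
    intro K
    have h5 : classInner χ (fixedPointCharacter (PJ cs h T X (K : Set I))) = mu (PJ cs h T X (K : Set I)) χ := by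
      rw [H774.CC.mu_eq_sum _ _ (Core.isIrr_isClassFunction hχ), classInner_apply, Nat.card_eq_fintype_card]
      congr 1
      refine Finset.sum_congr rfl fun g _ => ?_
      unfold fixedPointCharacter
      rw [Complex.conj_natCast, mul_comm]
      rfl
    rw [h5, hc]
    split_ifs with hK
    · rw [hK, Finset.coe_empty, WJ_empty', H116.HeckeU.mu_bot]
      exact h1
    · obtain ⟨k, hk⟩ := Finset.nonempty_iff_ne_empty.2 hK
      have : Fintype (WJ cs (K : Set I)) := Fintype.ofFinite _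
      have h6 : ∑ x : WJ cs (K : Set I), (f x : ℂ) = -∑ x : WJ cs (K : Set I), (f x : ℂ) := by
        rw [← Finset.sum_neg_distrib]
        symm
        refine Fintype.sum_equiv (Equiv.mulLeft (⟨cs.simple k, simple_mem_WJ cs hk⟩ : WJ cs (K : Set I))) _ _ fun x => ?_
        have h7 : (f (cs.simple k) : ℂ) = -1 := hs k
        simp [h7]
      rw [mu_sum]
      have h7 : ∑ x : WJ cs (K : Set I), (f x : ℂ) = 0 := by linear_combination (1 / 2 : ℂ) * h6
      rw [h7, mul_zero]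
  rw [← h3]
  by_contra hne
  have h5 := Core.classInner_irr_ne hχ h2 fun e => hne (congrFun e 1)
  have e : (fun g => ∑ K ∈ (Finset.univ : Finset I).powerset, (-1 : ℂ) ^ K.card *
      fixedPointCharacter (PJ cs h T X (K : Set I)) g) = ∑ K ∈ (Finset.univ : Finset I).powerset,
        ((-1 : ℂ) ^ K.card) • fixedPointCharacter (PJ cs h T X (K : Set I)) := by
    funext g
    rw [Finset.sum_apply]
    rfl
  rw [e, Core.classInner_sum_right, Finset.sum_eq_single ∅] at h5
  · rw [Core.classInner_smul_right, h4, if_pos rfl] at h5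
    simp at h5
  · intro K _ hK
    rw [Core.classInner_smul_right, h4, if_neg hK, mul_zero]
  · intro h6
    exact absurd (Finset.empty_mem_powerset _) h6

/-- the Steinberg character -/
theorem val_sgn [Fact p.Prime] (h1 : φ 1 = 1) (hs : ∀ i, φ (cs.simple i) = -1) {g : Y} (hg : p ∣ orderOf g) :
    χ g = 0 := by
  have h2 := deg_sgn R hG hχ hφ hc h1 hs
  obtain ⟨a, ha⟩ := IsPGroup.iff_card.1 R.isPGroup_Upos
  have h3 := KFacts.RgdSyl.not_dvd_relIndex R
  rw [hG, Subgroup.relIndex_top_right] at h3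
  refine H732.VZ.zero_of_defect (a := a) Fact.out ?_ h3 ⟨χ, hχ⟩ ?_ hg
  · rw [← ha, Subgroup.card_mul_index]
  · have h4 : (charDegree χ : ℂ) = (Nat.card (RGD.Sup X (RGD.Pos cs h)) : ℂ) :=
      (H686.CharKit.charDegree_irr ⟨χ, hχ⟩).trans h2
    have h5 : charDegree χ = Nat.card (RGD.Sup X (RGD.Pos cs h)) := by exact_mod_cast h4
    change p ^ a ∣ charDegree χ
    rw [h5, ha]

end Cfsg.Agent.VAN.HC
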