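import Cfsg.Agent.VAN.HC.Defs
import Cfsg.Agent.H985.VZ.Cells
import Cfsg.Agent.H461.CoxB
import Cfsg.Agent.Characters.Linear
import Cfsg.Agent.VAN.Rk.One

/-!
# S4942: the degree of the constituent of `1_B^G` which belongs to a linear character of `W` (helper83)

* `deg_ex`, `deg_lin` : `χ(1) ∑_w f(w) = |G : B|`, `f` multiplicative along reduced words with `f(s) = q_s ^ ± 1`;
* `sum_B` : the two-parameter Poincaré sum of `W(B_n)` in a field of characteristic zero;
* `deg_B`, `index_B`, `deg_mid_B`, `zero_mid_B` : type `B_n`;  `deg_dih`, `index_dih` : rank two.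
-/

set_option autoImplicit false
set_option linter.unusedSectionVars false

namespace Cfsg.Agent.VAN.HC

open CoxeterSystem Cfsg Cfsg.Agent.ChevalleyStructure.CoxeterGeom Cfsg.Agent.Tits.Roots Cfsg.Agent.Tits.Core
  Cfsg.Agent.Nodes.Reps Cfsg.Agent.Nodes.BNOf Cfsg.Agent.Nodes.Bruhat Cfsg.Agent.Nodes.LeviDec Module
open Cfsg.Agent.H439.CC (mu)
open Cfsg.Agent.H985.VZ (fx av Vl lamB Tq qq)
open Cfsg.Agent.H461.CoxB (Phi)
open Cfsg.Agent.H461.SgnCount (stI stN)

namespace Deg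

theorem mu_char {Y : Type*} [Group Y] [Finite Y] {V : Type*} [AddCommGroup V] [Module ℂ V] [FiniteDimensional ℂ V]
    (ρ : Representation ℂ Y V) (P : Subgroup Y) : mu P ρ.character = finrank ℂ (fx ρ P) := by
  have : Fintype P := Fintype.ofFinite P
  rw [← H985.VZ.eig_one, H985.VZ.trace_el_eq, mu, finsum_eq_sum_of_fintype]
  simp

theorem mu_one {Y : Type*} [Group Y] [Finite Y] (P : Subgroup Y) : mu P (fun _ => (1 : ℂ)) = 1 := by
  have : Fintype P := Fintype.ofFinite P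
  rw [mu, finsum_eq_sum_of_fintype, Finset.sum_const, Finset.card_univ, ← Nat.card_eq_fintype_card, nsmul_eq_mul,
    mul_one, inv_mul_cancel₀ (H985.VZ.card_ne P)]

variable {I W : Type*} [Group W] {M : CoxeterMatrix I} (cs : CoxeterSystem M W)

theorem mu_empty (φ : W → ℂ) : mu (WJ cs (∅ : Set I)) φ = φ 1 := by
  have h : WJ cs (∅ : Set I) = ⊥ := by
    rw [WJ, Set.image_empty, Subgroup.closure_empty]
  rw [h, mu, finsum_unique, Subgroup.card_bot, Nat.cast_one, inv_one, one_mul]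
  rfl

theorem simple_ne_one (i : I) : cs.simple i ≠ 1 := fun h => by
  have h1 := cs.length_simple i
  rw [h, cs.length_one] at h1
  exact zero_ne_one h1

theorem mu_single [Fintype I] [DecidableEq I] (i : I) (φ : W → ℂ) :
    mu (WJ cs {i}) φ = (φ 1 + φ (cs.simple i)) / 2 := by
  have hs : cs.simple i ∈ WJ cs {i} := Subgroup.subset_closure ⟨i, rfl, rfl⟩
  let e : Bool ≃ WJ cs {i} := Equiv.ofBijective (fun b => cond b 1 ⟨_, hs⟩) ⟨by
    rintro (_ | _) (_ | _) h
    · rfl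
    · exact absurd (congrArg Subtype.val h) (simple_ne_one cs i)
    · exact absurd (congrArg Subtype.val h).symm (simple_ne_one cs i)
    · rfl, fun w => by
    rcases H985.VZ.mem_WJ_single w.2 with h | h
    · exact ⟨true, Subtype.ext h.symm⟩
    · exact ⟨false, Subtype.ext h.symm⟩⟩
  rw [mu, ← Nat.card_congr e, ← finsum_comp_equiv e, finsum_eq_sum_of_fintype, Fintype.sum_bool]
  simp only [Nat.card_eq_fintype_card, Fintype.card_bool]
  change ((2 : ℕ) : ℂ)⁻¹ * (φ 1 + φ (cs.simple i)) = _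
  push_cast
  ring

theorem lin_simple {φ : W → ℂ} (hφ : IsIrrCharacter W φ) (h1 : φ 1 = 1) (i : I) :
    φ (cs.simple i) = 1 ∨ φ (cs.simple i) = -1 := by
  obtain ⟨ξ, rfl⟩ := Characters.Linear.exists_hom_of_isIrrCharacter hφ h1
  refine mul_self_eq_one_iff.1 ?_
  rw [← Units.val_mul, ← map_mul, cs.simple_mul_simple_self, map_one, Units.val_one]

theorem lin_eq {φ : W → ℂ} (hφ : IsIrrCharacter W φ) (h1 : φ 1 = 1) {i j : I} (hij : M i j = 3) :
    φ (cs.simple i) = φ (cs.simple j) := by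
  have ha := lin_simple cs hφ h1 i
  have hb := lin_simple cs hφ h1 j
  obtain ⟨ξ, rfl⟩ := Characters.Linear.exists_hom_of_isIrrCharacter hφ h1
  have h2 := congrArg (fun w => ((ξ w : ℂˣ) : ℂ)) (cs.simple_mul_simple_pow i j)
  simp only [hij, map_pow, map_mul, map_one, Units.val_pow_eq_pow_val, Units.val_mul, Units.val_one] at h2
  dsimp only at ha hb ⊢
  rcases ha with ha | ha <;> rcases hb with hb | hb <;> rw [ha, hb] at h2 ⊢ <;> norm_num at h2

/-- functions which are multiplicative along reduced words -/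
theorem eq_of_rec {K : Type*} [Mul K] {f g : W → K} {y : I → K} (h1 : f 1 = g 1)
    (hf : ∀ w i, cs.length w < cs.length (w * cs.simple i) → f (w * cs.simple i) = f w * y i)
    (hg : ∀ w i, cs.length w < cs.length (w * cs.simple i) → g (w * cs.simple i) = g w * y i) (w : W) :
    f w = g w := by
  induction hn : cs.length w using Nat.strong_induction_on generalizing w with
  | _ m ih =>
    by_cases hw1 : w = 1
    · rw [hw1, h1]
    obtain ⟨j, hj⟩ := cs.exists_rightDescent_of_ne_one hw1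
    have hj' : cs.length (w * cs.simple j) < cs.length w := hj
    obtain ⟨v, hv⟩ : ∃ v, v = w * cs.simple j := ⟨_, rfl⟩
    obtain rfl : w = v * cs.simple j := by rw [hv, cs.simple_mul_simple_cancel_right]
    rw [← hv] at hj'
    rw [hf v j hj', hg v j hj', ih (cs.length v) (by omega) v rfl]

theorem stat {L : Type*} [CommSemiring L] {n : ℕ} (cs : CoxeterSystem (CoxeterMatrix.B n) W) (a b : L) (w : W)
    (i : Fin n) (hw : cs.length w < cs.length (w * cs.simple i)) :
    a ^ stI (Phi cs (w * cs.simple i)) * b ^ stN (Phi cs (w * cs.simple i)) =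
      a ^ stI (Phi cs w) * b ^ stN (Phi cs w) * if (i : ℕ) + 1 < n then a else b := by
  split_ifs with hlt
  · rw [H461.CoxB.phi_mul cs hlt, H461.CoxB.stI_swap hlt (H461.CoxB.phi_desc cs hlt hw), H461.CoxB.stN_comp, pow_succ]
    ring
  · rw [H461.CoxB.phi_mul_last cs hlt, H461.CoxB.stI_last hlt, H461.CoxB.stN_last (H461.CoxB.phi_pos cs hlt hw),
      pow_succ]
    ring

theorem stat_one {L : Type*} [CommSemiring L] {n : ℕ} (cs : CoxeterSystem (CoxeterMatrix.B n) W) (a b : L) :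
    a ^ stI (Phi cs 1) * b ^ stN (Phi cs 1) = 1 := by
  rw [show Phi cs 1 = fun i : Fin n => (n : ℤ) - (i : ℕ) from funext (H461.CoxB.phi_one cs), H461.CoxB.stI_one,
    H461.CoxB.stN_one, pow_zero, pow_zero, mul_one]

end Deg

/-- the existence of the weight function -/
theorem exists_wt_B {L : Type*} [CommSemiring L] {n : ℕ} {W : Type*} [Group W]
    (cs : CoxeterSystem (CoxeterMatrix.B n) W) (a b : L) : ∃ f : W → L, f 1 = 1 ∧
      ∀ w i, cs.length w < cs.length (w * cs.simple i) → f (w * cs.simple i) = f w * if (i : ℕ) + 1 < n then a else b :=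
  ⟨fun w => a ^ stI (Phi cs w) * b ^ stN (Phi cs w), Deg.stat_one cs a b, Deg.stat cs a b⟩

/-- **The two-parameter Poincaré sum of type `B_n`.** -/
theorem sum_B {K : Type*} [Field K] [CharZero K] {n : ℕ} {W : Type*} [Group W] [Finite W]
    (cs : CoxeterSystem (CoxeterMatrix.B n) W) (a b : K) (f : W → K) (h1 : f 1 = 1)
    (hf : ∀ w i, cs.length w < cs.length (w * cs.simple i) →
      f (w * cs.simple i) = f w * if (i : ℕ) + 1 < n then a else b) :
    ∑ᶠ w, f w = ∏ m ∈ Finset.range n, ((∑ j ∈ Finset.range (m + 1), a ^ j) * (1 + a ^ m * b)) := by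
  classical
  have : Fintype W := Fintype.ofFinite W
  have key : (∑ w : W, MvPolynomial.X 0 ^ stI (Phi cs w) * MvPolynomial.X 1 ^ stN (Phi cs w) :
        MvPolynomial (Fin 2) K) =
      ∏ m ∈ Finset.range n, ((∑ j ∈ Finset.range (m + 1), MvPolynomial.X 0 ^ j) *
        (1 + MvPolynomial.X 0 ^ m * MvPolynomial.X 1)) := by
    refine MvPolynomial.funext_set (fun _ => Set.range (Nat.cast : ℕ → K))
      (fun _ => Set.infinite_range_of_injective Nat.cast_injective) fun x hx => ?_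
    obtain ⟨c, hc⟩ := hx 0 trivial
    obtain ⟨d, hd⟩ := hx 1 trivial
    have h2 := H461.CoxB.sum_B cs c d (fun w => c ^ stI (Phi cs w) * d ^ stN (Phi cs w)) (Deg.stat_one cs c d)
      fun w i hw => Deg.stat cs c d w i (by omega)
    simp only [map_sum, map_mul, map_pow, map_prod, map_add, map_one, MvPolynomial.eval_X, ← hc, ← hd]
    exact_mod_cast h2
  have h3 := congrArg (MvPolynomial.eval ![a, b]) key
  simp only [map_sum, map_mul, map_pow, map_prod, map_add, map_one, MvPolynomial.eval_X, Matrix.cons_val_zero,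
    Matrix.cons_val_one] at h3
  rw [finsum_eq_sum_of_fintype, ← h3]
  exact Finset.sum_congr rfl fun w _ => Deg.eq_of_rec cs (g := fun w => a ^ stI (Phi cs w) * b ^ stN (Phi cs w))
    (h1.trans (Deg.stat_one cs a b).symm) hf (Deg.stat cs a b) w

section Gen

variable {I W Y : Type*} [Fintype I] [DecidableEq I] [Group W] [Group Y] {M : CoxeterMatrix I}
  {cs : CoxeterSystem M W} {A : I → I → ℤ} {h : IsCartan M A} {p : ℕ} {T : Subgroup Y} {n : I → Y}
  {X : (I → ℤ) → Subgroup Y} [Finite W] [Fintype Y] (R : RGD cs h p T n X)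

include R

/-- the eigenvalue `-1 / q` -/
theorem Deg.eig_neg {V : Type*} [AddCommGroup V] [Module ℂ V] {ρ : Representation ℂ Y V} {v : V}
    (hv : v ∈ fx ρ (RGD.B cs h T X)) (hv0 : v ≠ 0) {i : I} (h0 : fx ρ (PJ cs h T X {i}) = ⊥) {x : ℂ}
    (hx : av ρ (RGD.B cs h T X) (ρ (n i) v) = x • v) : 1 + (qq X i : ℂ) * x = 0 := by
  classical
  have h1 : av ρ (PJ cs h T X {i}) v = 0 := by
    have := H985.VZ.av_mem ρ (PJ cs h T X {i}) v
    rwa [h0, Submodule.mem_bot] at this
  have hc : ∀ g : PJ cs h T X {i}, (g : Y) ∉ RGD.B cs h T X ↔ Cell R.nsys cs h X (cs.simple i) g := fun g => by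
    constructor
    · intro hg
      obtain ⟨w, hw, hc⟩ := (mem_PJ_iff_cell R).1 g.2
      rcases H985.VZ.mem_WJ_single hw with rfl | rfl
      · exact absurd hc.mem_of_one hg
      · exact hc
    · exact fun hg hb => Deg.simple_ne_one cs i (Cell.unique R hg (cell_one_of_mem hb))
  have h2 : ∀ g : PJ cs h T X {i}, av ρ (RGD.B cs h T X) (ρ g v) =
      if (g : Y) ∈ RGD.B cs h T X then v else x • v := fun g => by
    split_ifs with hg
    · rw [hv _ hg, H985.VZ.av_of_mem hv]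
    · obtain ⟨b₁, hb₁, k, hk, b₂, hb₂, e⟩ := (hc g).1 hg
      have h3 := hv _ (mul_mem (RGD.T_le_B ((rp_simple cs R.nsys i).unique hk)) hb₂)
      rw [e, show b₁ * k * b₂ = b₁ * (n i * ((n i)⁻¹ * k * b₂)) by group, map_mul, map_mul, Module.End.mul_apply,
        Module.End.mul_apply, h3, H985.VZ.av_rho ρ hb₁, hx]
  have h3 := congrArg (av ρ (RGD.B cs h T X)) h1
  rw [H985.VZ.av_apply ρ (PJ cs h T X {i}) v, map_smul, map_sum, map_zero, Finset.sum_congr rfl fun g _ => h2 g, Finset.sum_ite,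
    Finset.sum_const, Finset.sum_const, ← Fintype.card_subtype, ← Fintype.card_subtype, ← Nat.card_eq_fintype_card,
    ← Nat.card_eq_fintype_card] at h3
  have c1 : Nat.card {g : PJ cs h T X {i} // (g : Y) ∈ RGD.B cs h T X} = Nat.card (RGD.B cs h T X) :=
    Nat.card_congr (Equiv.subtypeSubtypeEquivSubtype (p := (· ∈ PJ cs h T X {i})) (q := (· ∈ RGD.B cs h T X))
      fun hg => B_le_PJ hg)
  have c2 : Nat.card {g : PJ cs h T X {i} // ¬ (g : Y) ∈ RGD.B cs h T X} = qq X i * Nat.card (RGD.B cs h T X) := by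
    have h4 := H985.VZ.card_cell_simple R (i := i) (w := 1) (by rw [mul_one, cs.length_one, cs.length_simple]; omega)
    rw [mul_one, H985.VZ.card_cell_one R] at h4
    rw [← h4]
    exact Nat.card_congr ((Equiv.subtypeEquivRight hc).trans (Equiv.subtypeSubtypeEquivSubtype
      (p := (· ∈ PJ cs h T X {i})) (q := Cell R.nsys cs h X (cs.simple i))
      fun hg => (mem_PJ_iff_cell R).2 ⟨_, Subgroup.subset_closure ⟨i, rfl, rfl⟩, hg⟩))
  rw [c1, c2, ← Nat.cast_smul_eq_nsmul ℂ, ← Nat.cast_smul_eq_nsmul ℂ, smul_smul, ← add_smul, smul_smul] at h3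
  have h5 := (mul_eq_zero.1 ((smul_eq_zero.1 h3).resolve_right hv0)).resolve_left (inv_ne_zero (H985.VZ.card_ne _))
  refine (mul_eq_zero.1 (?_ : (Nat.card (RGD.B cs h T X) : ℂ) * _ = 0)).resolve_left (H985.VZ.card_ne _)
  push_cast at h5
  linear_combination h5

variable (hG : GG cs h T X = ⊤) {χ : Y → ℂ} (hχ : IsIrrCharacter Y χ) {φ : W → ℂ} (hφ : IsIrrCharacter W φ)
  (hc : Cor cs h T X χ φ)

include hG hχ hφ hc

/-- **The degree formula**, with the weight function as a part of the conclusion. -/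
theorem deg_ex (h1 : φ 1 = 1) : ∃ f : W → ℂ, f 1 = 1 ∧
    (∀ w i, cs.length w < cs.length (w * cs.simple i) → f (w * cs.simple i) =
      f w * if φ (cs.simple i) = 1 then (Nat.card (X (sr i)) : ℂ) else (Nat.card (X (sr i)) : ℂ)⁻¹) ∧
    χ 1 * ∑ᶠ w, f w = (RGD.B cs h T X).index := by
  have : Fintype W := Fintype.ofFinite W
  obtain ⟨k, ρ, hρ, rfl⟩ := hχ
  have hPB : PJ cs h T X (∅ : Set I) = RGD.B cs h T X := by
    refine le_antisymm (fun g hg => ?_) B_le_PJ
    obtain ⟨w, hw, hc⟩ := (mem_PJ_iff_cell R).1 hg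
    rw [WJ, Set.image_empty, Subgroup.closure_empty, Subgroup.mem_bot] at hw
    exact (hw ▸ hc).mem_of_one
  have h2 : finrank ℂ (fx ρ (RGD.B cs h T X)) = 1 := by
    have h3 := hc ∅
    rw [hPB, Deg.mu_char, Deg.mu_empty, h1] at h3
    exact_mod_cast h3
  obtain ⟨⟨v, hv⟩, hv0, hsp⟩ := finrank_eq_one_iff'.1 h2
  have hv0' : v ≠ 0 := fun h => hv0 (Subtype.ext h)
  have hl : lamB R 1 = 1 := MonoidHom.one_comp _
  have hV : Vl cs h T X ρ 1 = fx ρ (RGD.B cs h T X) := by rw [H985.VZ.Vl_eq R, hl, H985.VZ.eig_one]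
  have hE : Vl cs h T X ρ 1 = ℂ ∙ v := by
    rw [hV]
    refine le_antisymm (fun w hw => ?_) ((Submodule.span_singleton_le_iff_mem _ _).2 hv)
    obtain ⟨c, hc⟩ := hsp ⟨w, hw⟩
    exact Submodule.mem_span_singleton.2 ⟨c, congrArg Subtype.val hc⟩
  have hx : ∀ i, ∃ x : ℂ, Tq R ρ i 1 v = x • v := fun i => by
    have h3 := H985.VZ.Tq_mem (ρ := ρ) R i 1 v
    rw [hE] at h3
    obtain ⟨c, hc⟩ := Submodule.mem_span_singleton.1 h3
    exact ⟨c, hc.symm⟩
  choose x hx using hx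
  obtain ⟨ψ, p1, p2, p3⟩ := H985.VZ.degree R hG hρ (l := 1) (fun _ _ _ _ _ _ => rfl) hv0' hE hx
  have hq : ∀ i, (qq X i : ℂ) ≠ 0 := fun i => H985.VZ.card_ne _
  have hy : ∀ i, (qq X i : ℂ) * x i ^ 2 =
      if φ (cs.simple i) = 1 then (Nat.card (X (sr i)) : ℂ) else (Nat.card (X (sr i)) : ℂ)⁻¹ := by
    intro i
    have h3 := hc {i}
    rw [Deg.mu_char, Deg.mu_single, h1] at h3
    have h4 := hx i
    rw [H985.VZ.Tq_apply R (hV ▸ hv), hl] at h4
    split_ifs with h5
    · rw [h5] at h3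
      have h6 : fx ρ (PJ cs h T X {i}) = fx ρ (RGD.B cs h T X) :=
        Submodule.eq_of_le_of_finrank_eq (H985.VZ.fx_mono B_le_PJ) (by
          rw [h2]
          have h7 : (finrank ℂ (fx ρ (PJ cs h T X {i})) : ℂ) = 1 := by rw [h3]; norm_num
          exact_mod_cast h7)
      have h7 : ρ (n i) v = v := (h6 ▸ hv : v ∈ fx ρ (PJ cs h T X {i})) _ (H985.VZ.n_mem_Pi R i)
      rw [h7] at h4
      have h8 : x i = 1 := by
        have h9 := (H985.VZ.av_of_mem hv).symm.trans h4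
        rw [← sub_eq_zero, ← one_smul ℂ v, smul_smul, ← sub_smul, mul_one] at h9
        exact (sub_eq_zero.1 ((smul_eq_zero.1 h9).resolve_right hv0')).symm
      rw [h8, one_pow, mul_one]
      rfl
    · rw [(Deg.lin_simple cs hφ h1 i).resolve_left h5, add_neg_cancel, zero_div, Nat.cast_eq_zero, Submodule.finrank_eq_zero] at h3
      have h7 := Deg.eig_neg R hv hv0' h3 h4
      refine eq_inv_of_mul_eq_one_left ?_
      change _ * (qq X i : ℂ) = 1
      linear_combination (qq X i * x i - 1) * h7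
  refine ⟨fun w => ψ w⁻¹, by simpa using p1, fun w i hw => ?_, ?_⟩
  · have h3 := p2 i w⁻¹ (by rwa [← cs.length_inv (_ * _), mul_inv_rev, inv_inv, cs.inv_simple, cs.length_inv])
    simp only [MonoidHom.one_apply, inv_one, Units.val_one, mul_one] at h3
    simp only [mul_inv_rev, cs.inv_simple]
    rw [h3, hy, mul_comm]
  · rw [finsum_eq_sum_of_fintype, show ∑ w : W, ψ w⁻¹ = ∑ w, ψ w from Equiv.sum_comp (Equiv.inv W) ψ]
    rw [← (RGD.B cs h T X).card_mul_index] at p3
    refine mul_left_cancel₀ (H985.VZ.card_ne (RGD.B cs h T X)) ?_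
    push_cast at p3
    linear_combination p3

/-- (box DEG) the degree for a linear character of `W` -/
theorem deg_lin (h1 : φ 1 = 1) (f : W → ℚ) (hf1 : f 1 = 1)
    (hf : ∀ w i, cs.length w < cs.length (w * cs.simple i) → f (w * cs.simple i) =
      f w * if φ (cs.simple i) = 1 then (Nat.card (X (sr i)) : ℚ) else (Nat.card (X (sr i)) : ℚ)⁻¹) :
    χ 1 * ((∑ᶠ w, f w : ℚ) : ℂ) = (RGD.B cs h T X).index := by
  have : Fintype W := Fintype.ofFinite W
  obtain ⟨g, g1, g2, g3⟩ := deg_ex R hG hχ hφ hc h1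
  rw [← g3, finsum_eq_sum_of_fintype, finsum_eq_sum_of_fintype, Rat.cast_sum]
  congr 1
  refine Finset.sum_congr rfl fun w _ => Deg.eq_of_rec cs (f := fun w => (f w : ℂ)) (by simp [hf1, g1])
    (fun w i hw => ?_) g2 w
  simp only [hf w i hw]
  split_ifs <;> simp

/-- rank two, `m_ab = 2 m` -/
theorem deg_dih (h1 : φ 1 = 1) {a b : I} (hab : a ≠ b) (hI : ∀ i, i = a ∨ i = b) {m : ℕ} (hm : M a b = 2 * m)
    (hm0 : 0 < m) {x y : ℂ}
    (hx : x = if φ (cs.simple a) = 1 then (Nat.card (X (sr a)) : ℂ) else (Nat.card (X (sr a)) : ℂ)⁻¹)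
    (hy : y = if φ (cs.simple b) = 1 then (Nat.card (X (sr b)) : ℂ) else (Nat.card (X (sr b)) : ℂ)⁻¹) :
    χ 1 * ((1 + x) * (1 + y) * ∑ i ∈ Finset.range m, (x * y) ^ i) = (RGD.B cs h T X).index := by
  have : Fintype W := Fintype.ofFinite W
  obtain ⟨g, g1, g2, g3⟩ := deg_ex R hG hχ hφ hc h1
  have h2 := H985.VZ.dih_sum cs h hab hI hm hm0 (ψ := fun w => g w⁻¹)
    (y := fun i => if φ (cs.simple i) = 1 then (Nat.card (X (sr i)) : ℂ) else (Nat.card (X (sr i)) : ℂ)⁻¹)
    (by simpa using g1) fun i w hw => by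
      simp only [mul_inv_rev, cs.inv_simple]
      rw [g2 w⁻¹ i (by rwa [← cs.length_inv (_ * _), mul_inv_rev, inv_inv, cs.inv_simple, cs.length_inv]), mul_comm]
  rw [← g3, finsum_eq_sum_of_fintype, ← Equiv.sum_comp (Equiv.inv W) g, hx, hy]
  exact congrArg _ h2.symm

omit R hG hχ hφ hc in
theorem cor_one : Cor cs h T X (fun _ : Y => 1) (fun _ : W => 1) := fun _ => by rw [Deg.mu_one, Deg.mu_one]

omit hχ hφ hc in
theorem index_dih {a b : I} (hab : a ≠ b) (hI : ∀ i, i = a ∨ i = b) {m : ℕ} (hm : M a b = 2 * m) (hm0 : 0 < m) :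
    (RGD.B cs h T X).index = (1 + Nat.card (X (sr a))) * (1 + Nat.card (X (sr b))) *
      ∑ i ∈ Finset.range m, (Nat.card (X (sr a)) * Nat.card (X (sr b))) ^ i := by
  have h1 := deg_dih R hG Characters.Core.isIrr_one Characters.Core.isIrr_one cor_one rfl hab hI hm hm0
    (if_pos (Pi.one_apply _)).symm (if_pos (Pi.one_apply _)).symm
  rw [Pi.one_apply, one_mul] at h1
  exact_mod_cast h1.symm

end Gen

section TypeB

variable {W Y : Type*} [Group W] [Group Y] {l : ℕ} {cs : CoxeterSystem (CoxeterMatrix.B l) W}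
  {A : Fin l → Fin l → ℤ} {h : IsCartan (CoxeterMatrix.B l) A} {p : ℕ} {T : Subgroup Y} {n : Fin l → Y}
  {X : (Fin l → ℤ) → Subgroup Y} [Finite W] [Fintype Y] (R : RGD cs h p T n X) (hG : GG cs h T X = ⊤)
  {q Q : ℕ} (hq : ∀ i : Fin l, Nat.card (X (sr i)) = if (i : ℕ) + 1 < l then q else Q)

include R hG

theorem deg_B {χ : Y → ℂ} (hχ : IsIrrCharacter Y χ) {φ : W → ℂ} (hφ : IsIrrCharacter W φ) (hc : Cor cs h T X χ φ)
    (h1 : φ 1 = 1) {a b : ℂ}
    (hab : ∀ i : Fin l, (if φ (cs.simple i) = 1 then (Nat.card (X (sr i)) : ℂ) else (Nat.card (X (sr i)) : ℂ)⁻¹) =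
      if (i : ℕ) + 1 < l then a else b) :
    χ 1 * ∏ m ∈ Finset.range l, ((∑ j ∈ Finset.range (m + 1), a ^ j) * (1 + a ^ m * b)) =
      (RGD.B cs h T X).index := by
  obtain ⟨g, g1, g2, g3⟩ := deg_ex R hG hχ hφ hc h1
  rw [← g3, sum_B cs a b g g1 fun w i hw => by rw [g2 w i hw, hab]]

include hq

theorem index_B : (RGD.B cs h T X).index =
    ∏ m ∈ Finset.range l, ((∑ j ∈ Finset.range (m + 1), q ^ j) * (1 + q ^ m * Q)) := by
  have h1 := deg_B R hG Characters.Core.isIrr_one Characters.Core.isIrr_one cor_one rfl (a := q) (b := Q)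
    fun i => by
      rw [if_pos (Pi.one_apply _), hq]
      split_ifs <;> rfl
  rw [Pi.one_apply, one_mul] at h1
  exact_mod_cast h1.symm

omit R hG hq in
/-- a linear character is constant on the chain -/
theorem lin_chain {φ : W → ℂ} (hφ : IsIrrCharacter W φ) (h1 : φ 1 = 1) {i j : Fin l} (hi : (i : ℕ) + 1 < l)
    (hj : (j : ℕ) + 1 < l) : φ (cs.simple i) = φ (cs.simple j) := by
  have key : ∀ (k : ℕ) (hk : k + 1 < l), φ (cs.simple ⟨k, by omega⟩) = φ (cs.simple ⟨0, by omega⟩) := by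
    intro k
    induction k with
    | zero => intro _; rfl
    | succ k ih =>
      intro hk
      rw [← ih (by omega)]
      refine Deg.lin_eq cs hφ h1 ?_
      rw [H461.CoxB.B_apply, if_neg (by simp), if_neg (by simp; omega), if_pos (by simp)]
  exact (key i hi).trans (key j hj).symm

variable {χ : Y → ℂ} (hχ : IsIrrCharacter Y χ) {φ : W → ℂ} (hφ : IsIrrCharacter W φ) (hc : Cor cs h T X χ φ)
  (h1 : φ 1 = 1) {i j : Fin l} (hi : φ (cs.simple i) = 1) (hj : φ (cs.simple j) ≠ 1)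

include hχ hφ hc h1 hi hj

/-- **The degrees for the two linear characters of `W(B_l)` other than `1` and the sign.** -/
theorem deg_mid_B : ∃ d c : ℕ, χ 1 = d ∧ (c = Q ^ l ∨ c = q ^ (l * (l - 1))) ∧
    d * ∏ m ∈ Finset.range l, (Q + q ^ m) = c * ∏ m ∈ Finset.range l, (1 + q ^ m * Q) := by
  have hd : χ 1 = (charDegree χ : ℂ) := (H686.CharKit.charDegree_irr ⟨χ, hχ⟩).symm
  have hpos : ∀ k : Fin l, 0 < if (k : ℕ) + 1 < l then q else Q := fun k => hq k ▸ Nat.card_pos
  have hlast : ∀ k k' : Fin l, ¬ (k : ℕ) + 1 < l → ¬ (k' : ℕ) + 1 < l → k = k' := fun k k' a b =>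
    Fin.ext (by have := k.2; have := k'.2; omega)
  have hS : (∏ m ∈ Finset.range l, ∑ j ∈ Finset.range (m + 1), (q : ℂ) ^ j) ≠ 0 := by
    refine Finset.prod_ne_zero_iff.2 fun m _ => ?_
    have h2 : 0 < ∑ j ∈ Finset.range (m + 1), q ^ j := by
      rw [Finset.sum_range_succ', pow_zero]
      omega
    exact_mod_cast h2.ne'
  by_cases hil : (i : ℕ) + 1 < l
  · have hjl : ¬ (j : ℕ) + 1 < l := fun hjl => hj ((lin_chain hφ h1 hjl hil).trans hi)
    have hQ : (Q : ℂ) ≠ 0 := by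
      have := hpos j
      rw [if_neg hjl] at this
      exact_mod_cast this.ne'
    have h2 := deg_B R hG hχ hφ hc h1 (a := q) (b := (Q : ℂ)⁻¹) fun k => by
      rw [hq]
      by_cases hk : (k : ℕ) + 1 < l
      · rw [if_pos ((lin_chain hφ h1 hk hil).trans hi), if_pos hk, if_pos hk]
      · rw [if_neg (hlast k j hk hjl ▸ hj), if_neg hk, if_neg hk]
    refine ⟨_, Q ^ l, hd, Or.inl rfl, ?_⟩
    have h3 : ∏ m ∈ Finset.range l, ((Q : ℂ) + q ^ m) = Q ^ l * ∏ m ∈ Finset.range l, (1 + (q : ℂ) ^ m * (Q : ℂ)⁻¹) := by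
      rw [← Finset.card_range l, ← Finset.prod_const, Finset.card_range, ← Finset.prod_mul_distrib]
      exact Finset.prod_congr rfl fun m _ => by field_simp
    rw [index_B R hG hq, hd] at h2
    push_cast at h2
    rw [Finset.prod_mul_distrib, Finset.prod_mul_distrib, mul_left_comm] at h2
    refine Nat.cast_injective (R := ℂ) ?_
    push_cast
    rw [h3, ← mul_left_cancel₀ hS h2]
    ring
  · have hjl : (j : ℕ) + 1 < l := by
      by_contra hjl
      exact hj (hlast i j hil hjl ▸ hi)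
    have hq0 : (q : ℂ) ≠ 0 := by
      have := hpos j
      rw [if_pos hjl] at this
      exact_mod_cast this.ne'
    have h2 := deg_B R hG hχ hφ hc h1 (a := (q : ℂ)⁻¹) (b := Q) fun k => by
      rw [hq]
      by_cases hk : (k : ℕ) + 1 < l
      · rw [if_neg (fun h => hj ((lin_chain hφ h1 hjl hk).trans h)), if_pos hk, if_pos hk]
      · rw [if_pos (hlast i k hil hk ▸ hi), if_neg hk, if_neg hk]
    refine ⟨_, q ^ (l * (l - 1)), hd, Or.inr rfl, ?_⟩
    have h3 : (∏ m ∈ Finset.range l, ∑ j ∈ Finset.range (m + 1), (q : ℂ) ^ j) * ∏ m ∈ Finset.range l, ((Q : ℂ) + q ^ m) =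
        q ^ (l * (l - 1)) * ∏ m ∈ Finset.range l,
          ((∑ j ∈ Finset.range (m + 1), (q : ℂ)⁻¹ ^ j) * (1 + (q : ℂ)⁻¹ ^ m * Q)) := by
      rw [← Finset.sum_range_id_mul_two, Finset.sum_mul, ← Finset.prod_pow_eq_pow_sum, ← Finset.prod_mul_distrib,
        ← Finset.prod_mul_distrib]
      refine Finset.prod_congr rfl fun m _ => ?_
      have h4 : ∑ j ∈ Finset.range (m + 1), (q : ℂ) ^ j = q ^ m * ∑ j ∈ Finset.range (m + 1), (q : ℂ)⁻¹ ^ j := by
        rw [← Finset.sum_range_reflect, Finset.mul_sum]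
        refine Finset.sum_congr rfl fun j hj => ?_
        rw [Finset.mem_range] at hj
        rw [inv_pow, ← pow_sub₀ _ hq0 (by omega)]
        congr 1
      rw [h4, inv_pow]
      field_simp
      ring
    rw [index_B R hG hq, hd] at h2
    push_cast at h2
    rw [Finset.prod_mul_distrib (s := Finset.range l) (f := fun m => ∑ j ∈ Finset.range (m + 1), (q : ℂ) ^ j)] at h2
    refine Nat.cast_injective (R := ℂ) (mul_left_cancel₀ hS ?_)
    push_cast
    linear_combination (charDegree χ : ℂ) * h3 + (q : ℂ) ^ (l * (l - 1)) * h2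

/-- **Defect zero.** -/
theorem zero_mid_B {r : ℕ} (hr : r.Prime) (hB : ¬ r ∣ Nat.card (RGD.B cs h T X))
    (ha : ∀ m < l, ¬ r ∣ ∑ j ∈ Finset.range (m + 1), q ^ j) (hb : ∀ m < l, ¬ r ∣ Q + q ^ m) {g : Y}
    (hg : r ∣ orderOf g) : χ g = 0 := by
  obtain ⟨d, c, e1, -, e2⟩ := deg_mid_B R hG hq hχ hφ hc h1 hi hj
  refine Rk.zero_of_dvd hχ hr e1 (fun k hk => ?_) hg
  have cp : ∀ {a : ℕ}, ¬ r ∣ a → (r ^ k).Coprime a := fun ha =>
    Nat.Coprime.pow_left k ((Nat.Prime.coprime_iff_not_dvd hr).2 ha)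
  rw [← (RGD.B cs h T X).card_mul_index, index_B R hG hq, Finset.prod_mul_distrib] at hk
  have h2 := (Nat.Coprime.prod_right fun m hm => cp (ha m (Finset.mem_range.1 hm))).dvd_of_dvd_mul_left
    ((cp hB).dvd_of_dvd_mul_left hk)
  exact (Nat.Coprime.prod_right fun m hm => cp (hb m (Finset.mem_range.1 hm))).dvd_of_dvd_mul_right
    (e2 ▸ h2.mul_left c)

end TypeB

end Cfsg.Agent.VAN.HC
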