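import Cfsg.Agent.VAN.HC.Cor
import Cfsg.Agent.CharactersDeep.CliffordSum
import Cfsg.Agent.CharactersDeep.AbelianQuotient
import Cfsg.Agent.CharDeep.PowerDegrees

/-!
# S4942: from the group with the large torus to the simple group (helper82)

`van3_of`, `van3_of'`, `Van3.of_surj`.
-/

set_option autoImplicit false
set_option linter.unusedSectionVars false

open scoped ComplexConjugate Pointwise
open Cfsg

namespace Cfsg.Agent.VAN.HC

open Cfsg.Agent.OddOrderCharacters.Clifford Cfsg.Agent.Characters Cfsg.Agent.H53.HC Cfsg.Agent.H641.Gow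
  Cfsg.Agent.H45.GG

open CoxeterSystem Cfsg.Agent.ChevalleyStructure.CoxeterGeom Cfsg.Agent.Tits.Roots Cfsg.Agent.Tits.Core
  Cfsg.Agent.Tits.Exchange Cfsg.Agent.Nodes.Reps Cfsg.Agent.Nodes.BNOf Cfsg.Agent.Nodes.StabComb
  Cfsg.Agent.Nodes.Bruhat Cfsg.Agent.Nodes.OppDec Cfsg.Agent.Nodes.LeviDec
open Cfsg.Agent.H246.Dl (classInner_symm_ne PJ_mono)
open Cfsg.Agent.H439.CC (mu)

variable {I W Y : Type*} [Fintype I] [DecidableEq I] [Group W] [Group Y] {M : CoxeterMatrix I}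
  {cs : CoxeterSystem M W} {A : I → I → ℤ} {h : IsCartan M A} {p : ℕ} {T : Subgroup Y} {n : I → Y}
  {X : (I → ℤ) → Subgroup Y} [Finite W]

theorem _root_.Cfsg.Agent.VAN.Van3.of_surj {G H : Type*} [Group G] [Group H] [Finite G] (hG : Van3 G) (f : G →* H)
    (hf : Function.Surjective f) : Van3 H := by
  obtain ⟨g₁, g₂, g₃, h⟩ := hG
  refine ⟨f g₁, f g₂, f g₃, fun χ hχ h1 => h _ (Core.isIrr_comp f hf hχ) fun h2 => h1 ?_⟩
  funext x
  obtain ⟨y, rfl⟩ := hf x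
  exact congrFun h2 y

/-- every coset of `S` meets the centraliser of `g` -/
def Cover (S : Subgroup Y) (g : Y) : Prop := ∀ y : Y, ∃ z, z * g = g * z ∧ z⁻¹ * y ∈ S

theorem Cover.top (g : Y) : Cover ⊤ g := fun _ => ⟨1, by rw [one_mul, mul_one], trivial⟩

theorem Cover.ne [Fintype Y] {S : Subgroup Y} [S.Normal] [Fintype S] {g : Y} (hg : g ∈ S) (hc : Cover S g) {χ : Y → ℂ}
    (hχ : IsIrrCharacter Y χ) {ψ : S → ℂ} (hψ : IsIrrCharacter S ψ) (h : classInner (fun s : S => χ s) ψ ≠ 0)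
    (h0 : ψ ⟨g, hg⟩ ≠ 0) : χ g ≠ 0 := by
  classical
  have h1 := congrFun (CharactersDeep.CliffordSum.restrict_eq_smul_sum S hχ hψ h) ⟨g, hg⟩
  rw [Pi.smul_apply, smul_eq_mul, Finset.sum_apply] at h1
  have h2 : ∀ η ∈ Finset.univ.image (fun x : Y => ψ ∘ (MulAut.conjNormal x : MulAut S)), η ⟨g, hg⟩ = ψ ⟨g, hg⟩ := by
    intro η hη
    obtain ⟨x, -, rfl⟩ := Finset.mem_image.1 hη
    obtain ⟨z, hz, hs⟩ := hc x⁻¹
    have h3 : (MulAut.conjNormal x : MulAut S) ⟨g, hg⟩ = (⟨_, hs⟩ : S)⁻¹ * ⟨g, hg⟩ * (⟨_, hs⟩ : S)⁻¹⁻¹ := by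
      apply Subtype.ext
      change x * g * x⁻¹ = (z⁻¹ * x⁻¹)⁻¹ * g * (z⁻¹ * x⁻¹)⁻¹⁻¹
      have e : (z⁻¹ * x⁻¹)⁻¹ * g * (z⁻¹ * x⁻¹)⁻¹⁻¹ = x * (z * g) * z⁻¹ * x⁻¹ := by group
      rw [e, hz]
      group
    rw [Function.comp_apply, h3]
    exact Core.isIrr_isClassFunction hψ _ _
  rw [Finset.sum_congr rfl h2, Finset.sum_const, nsmul_eq_mul] at h1
  change χ g = _ at h1
  rw [h1]
  refine mul_ne_zero h (mul_ne_zero ?_ h0)
  rw [Nat.cast_ne_zero, Ne, Finset.card_eq_zero, Finset.image_eq_empty]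
  exact Finset.univ_nonempty.ne_empty

omit [Finite W] in
theorem exists_TS (hG : GG cs h T X = ⊤) (S : Subgroup Y) [S.Normal] (hX : ∀ x, IsRoot cs h x → X x ≤ S) (y : Y) :
    ∃ t ∈ T, ∃ s ∈ S, y = t * s := by
  have h1 : GG cs h T X ≤ T ⊔ S := by
    rw [← LJ_univ]
    exact sup_le le_sup_left (RGD.Sup_le fun x hx => le_trans (hX x hx.1) le_sup_right)
  have h2 : y ∈ T ⊔ S := h1 (by rw [hG]; trivial)
  have h3 : y ∈ ((T ⊔ S : Subgroup Y) : Set Y) := h2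
  rw [Subgroup.mul_normal] at h3
  obtain ⟨t, ht, s, hs, e⟩ := h3
  exact ⟨t, ht, s, hs, e.symm⟩

omit [Finite W] in
/-- the extension of `θ` to a linear character which is trivial on `S` -/
theorem exists_ext (hG : GG cs h T X = ⊤) (S : Subgroup Y) [hS : S.Normal] (hX : ∀ x, IsRoot cs h x → X x ≤ S)
    {θ : Y → ℂ} (hθ : Lin T θ) (h1 : ∀ t ∈ T, t ∈ S → θ t = 1) :
    ∃ l : Y →* ℂˣ, (∀ s ∈ S, l s = 1) ∧ ∀ t ∈ T, (l t : ℂ) = θ t := by
  choose t ht s hs e using exists_TS hG S hX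
  have key : ∀ a ∈ T, ∀ b ∈ S, θ (t (a * b)) = θ a := by
    intro a ha b hb
    have h2 : a⁻¹ * t (a * b) = b * (s (a * b))⁻¹ := by
      rw [inv_mul_eq_iff_eq_mul, ← mul_assoc, eq_mul_inv_iff_mul_eq, ← e]
    have h3 := h1 _ (mul_mem (inv_mem ha) (ht _)) (h2 ▸ mul_mem hb (inv_mem (hs _)))
    have h4 := hθ.mul a ha _ (mul_mem (inv_mem ha) (ht (a * b)))
    rwa [mul_inv_cancel_left, h3, mul_one] at h4
  let F : Y →* ℂ :=
    { toFun := fun y => θ (t y)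
      map_one' := by
        have := key 1 (one_mem _) 1 (one_mem _)
        rwa [mul_one, hθ.one] at this
      map_mul' := fun x y => by
        have h2 : x * y = (t x * t y) * (((t y)⁻¹ * s x * (t y)⁻¹⁻¹) * s y) := by
          conv_lhs => rw [e x, e y]
          group
        change θ (t (x * y)) = θ (t x) * θ (t y)
        rw [h2, key _ (mul_mem (ht x) (ht y)) _ (mul_mem (hS.conj_mem _ (hs x) _) (hs y)), hθ.mul _ (ht x) _ (ht y)] }
  refine ⟨F.toHomUnits, fun b hb => Units.ext ?_, fun a ha => ?_⟩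
  · have := key 1 (one_mem _) b hb
    rw [one_mul, hθ.one] at this
    exact this
  · have := key a ha 1 (one_mem _)
    rw [mul_one] at this
    exact this

variable [Fintype Y] (R : RGD cs h p T n X) (hG : GG cs h T X = ⊤) (S : Subgroup Y) [S.Normal]
  (hX : ∀ x, IsRoot cs h x → X x ≤ S)
include R hG hX

/-- a constituent of `1_B^Y` with the same restriction to `S` -/
theorem exists_unip {χ θ : Y → ℂ} (hχ : IsIrrCharacter Y χ) (hθ : PSer cs h T X χ θ) (h1 : ∀ t ∈ T, t ∈ S → θ t = 1) :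
    ∃ χ' φ, IsIrrCharacter Y χ' ∧ IsIrrCharacter W φ ∧ Cor cs h T X χ' φ ∧ ∀ s ∈ S, χ' s = χ s := by
  obtain ⟨l, h2, h3⟩ := exists_ext hG S hX hθ.1 h1
  have h4 := CharactersDeep.AbelianQuotient.isIrr_linear_mul l⁻¹ hχ
  have hU : RGD.Sup X (RGD.Pos cs h) ≤ S := RGD.Sup_le fun x hx => hX x hx.1
  have h5 : PSer cs h T X ((fun g => (l⁻¹ g : ℂ)) * χ) fun _ => 1 := by
    refine ⟨⟨rfl, fun _ _ _ _ => (mul_one _).symm⟩, ?_⟩
    refine ne_of_eq_of_ne (finsum_congr fun t => finsum_congr fun u => ?_) hθ.2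
    have h7 : (l⁻¹ ((t : Y) * u) : ℂ) = conj (θ t) := by
      rw [MonoidHom.inv_apply, map_mul, h2 u (hU u.2), mul_one, ← h3 t t.2, Units.val_inv_eq_inv_val]
      exact (eq_inv_of_mul_eq_one_right (CharactersDeep.AbelianQuotient.hom_mul_conj l t)).symm
    rw [Pi.mul_apply, h7, map_one, mul_one, mul_comm]
  obtain ⟨φ, hφ, hc⟩ := exists_cor R hG h4 ((pser_one_iff R).1 h5)
  refine ⟨_, φ, h4, hφ, hc, fun s hs => ?_⟩
  rw [Pi.mul_apply, MonoidHom.inv_apply, h2 s hs, inv_one, Units.val_one, one_mul]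

/-- the constituents of `1_B^Y` restrict irreducibly to `S` -/
theorem Cor.res_irr (hT : ∀ a ∈ T, ∀ b ∈ T, a * b = b * a) {χ : Y → ℂ} {φ : W → ℂ} (hχ : IsIrrCharacter Y χ)
    (hφ : IsIrrCharacter W φ) (hc : Cor cs h T X χ φ) : IsIrrCharacter S fun s : S => χ s := by
  classical
  have : Fintype S := Fintype.ofFinite _
  have hS : S.Normal := inferInstance
  obtain ⟨Λ, h1, -, h2, h3⟩ := CharactersDeep.AbelianQuotient.exists_linear_dual S (fun x y => by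
    obtain ⟨a, ha, s, hs, rfl⟩ := exists_TS hG S hX x
    obtain ⟨b, hb, s', hs', rfl⟩ := exists_TS hG S hX y
    have e : a * s * (b * s') * (a * s)⁻¹ * (b * s')⁻¹ =
        (a * s * a⁻¹) * ((a * b) * s' * (a * b)⁻¹) * ((a * b) * s⁻¹ * (a * b)⁻¹) * (a * b * a⁻¹ * s'⁻¹ * b⁻¹) := by
      group
    have e2 : a * b * a⁻¹ = b := by rw [hT a ha b hb, mul_inv_cancel_right]
    rw [e, e2]
    exact mul_mem (mul_mem (mul_mem (hS.conj_mem _ hs _) (hS.conj_mem _ hs' _)) (hS.conj_mem _ (inv_mem hs) _))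
      (hS.conj_mem _ (inv_mem hs') _))
  have hr : IsCharacter S fun s : S => χ s := Core.isCharacter_comp S.subtype (Core.isIrr_isCharacter hχ)
  rw [Core.isIrr_iff_classInner_self hr, CharactersDeep.AbelianQuotient.classInner_restrict_self S hχ Λ h2 h3]
  have h4 : Λ.filter (fun l => (fun g => (l g : ℂ)) * χ = χ) = {1} := by
    ext l
    rw [Finset.mem_filter, Finset.mem_singleton, h1]
    constructor
    · rintro ⟨h5, h6⟩
      have hU : RGD.Sup X (RGD.Pos cs h) ≤ S := RGD.Sup_le fun x hx => hX x hx.1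
      have h7 := hc.pser R hφ
      have h8 : PSer cs h T X χ fun t => l t := by
        refine ⟨⟨by simp, fun a _ b _ => by simp⟩, ?_⟩
        refine ne_of_eq_of_ne (finsum_congr fun t => finsum_congr fun u => ?_) h7.2
        have h10 := congrFun h6 ((t : Y) * u)
        rw [Pi.mul_apply, map_mul, h5 u (hU u.2), mul_one] at h10
        have h11 := CharactersDeep.AbelianQuotient.hom_mul_conj l t
        rw [map_one, mul_one]
        linear_combination (-conj (l t : ℂ)) * h10 + χ (t * u) * h11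
      obtain ⟨w, hw, x, hx, h9⟩ := Ser.sk R hG hχ (h8.ser R hχ) (h7.ser R hχ)
      ext y
      obtain ⟨t, ht, s, hs, rfl⟩ := exists_TS hG S hX y
      have h10 := h9 t (T_le_LJ ht) (cj_mem_LJ R hx hw (T_le_LJ ht))
      rw [map_mul, h5 s hs, mul_one]
      exact h10
    · rintro rfl
      refine ⟨fun _ _ => rfl, ?_⟩
      funext g
      simp
  rw [h4, Finset.card_singleton, Nat.cast_one]

omit R hG hX in
theorem eq_of_res [Fintype S] {χ : Y → ℂ} (h1 : IsIrrCharacter S fun s : S => χ s) {ψ : S → ℂ} (hψ : IsIrrCharacter S ψ)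
    (h2 : classInner (fun s : S => χ s) ψ ≠ 0) : (fun s : S => χ s) = ψ := by
  by_contra hne
  exact h2 (Core.classInner_irr_ne h1 hψ hne)

/-- `P1` : phase one (series), `P2` : phase two (constituents of `1_B^G`), both in the large group `Y`. -/
theorem van3_of {g₁ g₂ g₃ : Y} (m₁ : g₁ ∈ S) (m₂ : g₂ ∈ S) (m₃ : g₃ ∈ S)
    (c₁ : Cover S g₁) (c₂ : Cover S g₂) (c₃ : Cover S g₃)
    (P1 : ∀ χ, IsIrrCharacter Y χ → χ g₁ ≠ 0 → χ g₂ ≠ 0 → χ g₃ ≠ 0 →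
      ∃ θ, PSer cs h T X χ θ ∧ ∀ t ∈ T, t ∈ S → θ t = 1)
    (P2 : ∀ χ φ, IsIrrCharacter Y χ → IsIrrCharacter W φ → Cor cs h T X χ φ → χ g₁ ≠ 0 → χ g₂ ≠ 0 → χ g₃ ≠ 0 →
      φ = fun _ => 1) : Van3 S := by
  have : Fintype S := Fintype.ofFinite _
  refine ⟨⟨g₁, m₁⟩, ⟨g₂, m₂⟩, ⟨g₃, m₃⟩, fun ψ hψ hne => ?_⟩
  by_contra hcon
  push Not at hcon
  obtain ⟨n₁, n₂, n₃⟩ := hcon
  obtain ⟨χ, hχ, hi⟩ := CharDeep.PowerDegrees.exists_irr_over S hψ
  have k₁ := c₁.ne m₁ hχ hψ hi n₁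
  have k₂ := c₂.ne m₂ hχ hψ hi n₂
  have k₃ := c₃.ne m₃ hχ hψ hi n₃
  obtain ⟨θ, hθ, h1⟩ := P1 χ hχ k₁ k₂ k₃
  obtain ⟨χ', φ, hχ', hφ, hc, e⟩ := exists_unip R hG S hX hχ hθ h1
  obtain rfl := P2 χ' φ hχ' hφ hc (by rwa [e _ m₁]) (by rwa [e _ m₂]) (by rwa [e _ m₃])
  obtain rfl := hc.eq_one R hG hχ'
  have h2 : (fun s : S => χ s) = fun _ => 1 := funext fun s => (e s s.2).symm
  rw [h2] at hi
  exact hi (Core.classInner_irr_ne Core.isIrr_one hψ (Ne.symm hne))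

omit hX S in
/-- the same if `g₃` is only used in phase two -/
theorem van3_of' (hT : ∀ a ∈ T, ∀ b ∈ T, a * b = b * a) (S : Subgroup Y) [S.Normal]
    (hX : ∀ x, IsRoot cs h x → X x ≤ S) {g₁ g₂ g₃ : Y} (m₁ : g₁ ∈ S) (m₂ : g₂ ∈ S) (m₃ : g₃ ∈ S)
    (c₁ : Cover S g₁) (c₂ : Cover S g₂)
    (P1 : ∀ χ, IsIrrCharacter Y χ → χ g₁ ≠ 0 → χ g₂ ≠ 0 → ∃ θ, PSer cs h T X χ θ ∧ ∀ t ∈ T, t ∈ S → θ t = 1)
    (P2 : ∀ χ φ, IsIrrCharacter Y χ → IsIrrCharacter W φ → Cor cs h T X χ φ → χ g₁ ≠ 0 → χ g₂ ≠ 0 → χ g₃ ≠ 0 →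
      φ = fun _ => 1) : Van3 S := by
  have : Fintype S := Fintype.ofFinite _
  refine ⟨⟨g₁, m₁⟩, ⟨g₂, m₂⟩, ⟨g₃, m₃⟩, fun ψ hψ hne => ?_⟩
  by_contra hcon
  push Not at hcon
  obtain ⟨n₁, n₂, n₃⟩ := hcon
  obtain ⟨χ, hχ, hi⟩ := CharDeep.PowerDegrees.exists_irr_over S hψ
  have k₁ := c₁.ne m₁ hχ hψ hi n₁
  have k₂ := c₂.ne m₂ hχ hψ hi n₂
  obtain ⟨θ, hθ, h1⟩ := P1 χ hχ k₁ k₂
  obtain ⟨χ', φ, hχ', hφ, hc, e⟩ := exists_unip R hG S hX hχ hθ h1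
  have h2 : (fun s : S => χ s) = fun s : S => χ' s := funext fun s => (e s s.2).symm
  rw [h2] at hi
  have h3 := eq_of_res S (hc.res_irr R hG S hX hT hχ' hφ) hψ hi
  have k₃ : χ' g₃ ≠ 0 := by
    rw [← h3] at n₃
    exact n₃
  obtain rfl := P2 χ' φ hχ' hφ hc (by rwa [e _ m₁]) (by rwa [e _ m₂]) k₃
  obtain rfl := hc.eq_one R hG hχ'
  exact hne h3.symm

end Cfsg.Agent.VAN.HC
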