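import Cfsg.Agent.VAN.HC.Cor
import Cfsg.Agent.VAN.HC.Wey

/-!
# S4942: the values of the constituents of `1_B^G` (helper82)

`val`, `val_ell`, `val_ell0`, `val_ell1`, `one_of_unip`.
-/

set_option autoImplicit false
set_option linter.unusedSectionVars false

open scoped ComplexConjugate Pointwise
open Cfsg

namespace Cfsg.Agent.VAN.HC

open Cfsg.Agent.OddOrderCharacters.Clifford Cfsg.Agent.Characters Cfsg.Agent.H53.HC Cfsg.Agent.H641.Gow
  Cfsg.Agent.H45.GG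

open CoxeterSystem Cfsg.Agent.ChevalleyStructure.CoxeterGeom Cfsg.Agent.Tits.Roots Cfsg.Agent.Tits.Core
  Cfsg.Agent.Tits.Exchange Cfsg.Agent.Nodes.Reps Cfsg.Agent.Nodes.BNOf Cfsg.Agent.Nodes.StabComb
  Cfsg.Agent.Nodes.Bruhat Cfsg.Agent.Nodes.OppDec Cfsg.Agent.Nodes.LeviDec
open Cfsg.Agent.H246.Dl (classInner_symm_ne PJ_mono)
open Cfsg.Agent.H439.CC (mu)

section abs

theorem sum_sub {ι : Type*} [Fintype ι] (q : ι → Prop) [Fintype {x // q x}] (F : ι → ℂ) (h : ∀ x, ¬ q x → F x = 0) :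
    ∑ x, F x = ∑ x : {x // q x}, F x := by
  classical
  rw [← Finset.sum_subtype (Finset.univ.filter q) (by simp) F]
  exact (Finset.sum_filter_of_ne fun x _ hx => by by_contra hp; exact hx (h x hp)).symm

variable {G : Type*} [Group G]

theorem card_eq_sum {ι : Type*} [Fintype ι] (q : ι → Prop) [DecidablePred q] :
    (Nat.card {x // q x} : ℂ) = ∑ x, if q x then 1 else 0 := by
  rw [Finset.sum_boole, Nat.card_eq_fintype_card, Fintype.card_subtype]

/-- a normal subgroup which is transitive on the cosets of `K` -/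
theorem sum_normal [Finite G] (N K : Subgroup G) [hN : N.Normal] [Fintype N] (hs : N ⊔ K = ⊤) :
    ∑ y : N, (Nat.card {x : G // x⁻¹ * y * x ∈ K} : ℂ) = Nat.card N * Nat.card K := by
  classical
  have : Fintype G := Fintype.ofFinite _
  rw [Finset.sum_congr rfl fun y _ => card_eq_sum fun x : G => x⁻¹ * (y : N) * x ∈ K, Finset.sum_comm]
  have h1 : ∀ x : G, ∑ y : N, (if x⁻¹ * y * x ∈ K then (1 : ℂ) else 0) = Nat.card (K.subgroupOf N) := by
    intro x
    have h2 : (Nat.card (K.subgroupOf N) : ℂ) = ∑ y : N, if (y : G) ∈ K then 1 else 0 := card_eq_sum _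
    rw [h2]
    refine Fintype.sum_equiv (MulAut.conjNormal x⁻¹ : MulAut N).toEquiv _ _ fun y => ?_
    have e : (((MulAut.conjNormal x⁻¹ : MulAut N).toEquiv y : N) : G) = x⁻¹ * y * x := by
      change x⁻¹ * y * x⁻¹⁻¹ = _
      rw [inv_inv]
    rw [e]
  rw [Finset.sum_congr rfl fun x _ => h1 x, Finset.sum_const, Finset.card_univ, nsmul_eq_mul,
    ← Nat.card_eq_fintype_card]
  have h2 : N.relIndex K = N.index := by rw [← Subgroup.relIndex_sup_left, hs, Subgroup.relIndex_top_right]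
  have h3 : Nat.card (N.subgroupOf K) * N.relIndex K = Nat.card K := Subgroup.card_mul_index _
  have h4 : Nat.card (K.subgroupOf N) = Nat.card (N.subgroupOf K) := by
    rw [← Subgroup.inf_subgroupOf_right K N, ← Subgroup.inf_subgroupOf_left N K, card_rel inf_le_right,
      card_rel inf_le_left]
  rw [← N.card_mul_index, ← h3, h2, h4]
  push_cast
  ring

/-- the abstract form of `val` -/
theorem val_abs {P Q κ ι : Type*} [Group P] [Group Q] [Fintype P] [Fintype Q] [Fintype ι] (A : κ → Subgroup P)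
    (B : κ → Subgroup Q) (A₀ : Subgroup P) (hA : ∀ k, A₀ ≤ A k)
    (e : {η : IrrCharacter P // mu A₀ (η : P → ℂ) ≠ 0} ≃ IrrCharacter Q)
    (he : ∀ η k, mu (A k) (η.1 : P → ℂ) = mu (B k) (e η : Q → ℂ))
    (hS : ∀ f : Q → ℂ, IsClassFunction Q f → (∀ k, mu (B k) f = 0) → f = 0)
    {ψ : P → ℂ} (hψ : IsCharacter P ψ) {φ : Q → ℂ} (hφ : IsClassFunction Q φ) (hc : ∀ k, mu (A k) ψ = mu (B k) φ)
    {g : P} (hg : ∀ η : P → ℂ, IsIrrCharacter P η → classInner ψ η ≠ 0 → η g ≠ 0 → mu A₀ η ≠ 0)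
    (a : ι → ℂ) (w : ι → Q) (hcnt : ∀ k, (Nat.card {x : P // x⁻¹ * g * x ∈ A k} : ℂ) / Nat.card (A k) =
      ∑ i, a i * ((Nat.card {x : Q // x⁻¹ * w i * x ∈ B k} : ℂ) / Nat.card (B k))) :
    ψ g = ∑ i, a i * φ (w i) := by
  classical
  have : Finite (IrrCharacter P) := Core.finite_irr
  have : Fintype (IrrCharacter P) := Fintype.ofFinite _
  have : Finite (IrrCharacter Q) := Core.finite_irr
  have : Fintype (IrrCharacter Q) := Fintype.ofFinite _
  -- sums over the constituents of the permutation character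
  have hsum : ∀ (c : IrrCharacter P → ℂ) (k : κ), ∑ η, c η * mu (A k) (η : P → ℂ) =
      ∑ ζ : IrrCharacter Q, c (e.symm ζ).1 * mu (B k) (ζ : Q → ℂ) := by
    intro c k
    rw [sum_sub (fun η : IrrCharacter P => mu A₀ (η : P → ℂ) ≠ 0) _
      fun η h0 => by rw [mu_mono (hA k) (Core.isIrr_isCharacter η.2) (not_not.1 h0), mul_zero]]
    refine Fintype.sum_equiv e _ _ fun η => ?_
    rw [he η k, e.symm_apply_apply]
  have hcl : ∀ c : IrrCharacter Q → ℂ, IsClassFunction Q fun x => ∑ ζ : IrrCharacter Q, c ζ * (ζ : Q → ℂ) x :=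
    fun c x y => Finset.sum_congr rfl fun ζ _ => by rw [Core.isIrr_isClassFunction ζ.2 x y]
  -- step one
  have h1 : ∀ ζ : IrrCharacter Q, ((e.symm ζ).1 : P → ℂ) g = ∑ i, a i * (ζ : Q → ℂ) (w i) := by
    have h2 := hS _ (hcl fun ζ => ((e.symm ζ).1 : P → ℂ) g - ∑ i, a i * (ζ : Q → ℂ) (w i)) fun k => by
      rw [mu_lin]
      simp only [sub_mul, Finset.sum_sub_distrib]
      rw [← hsum (fun η => (η : P → ℂ) g) k, sum_mu, hcnt k, sub_eq_zero]
      simp only [Finset.sum_mul]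
      rw [Finset.sum_comm]
      refine Finset.sum_congr rfl fun i _ => ?_
      rw [← sum_mu, Finset.mul_sum]
      exact Finset.sum_congr rfl fun ζ _ => (mul_assoc _ _ _).symm
    intro ζ
    have h3 := Core.classInner_sum_smul_irr
      (fun ζ : IrrCharacter Q => ((e.symm ζ).1 : P → ℂ) g - ∑ i, a i * (ζ : Q → ℂ) (w i)) ζ
    have h4 : ∑ ξ : IrrCharacter Q, (((e.symm ξ).1 : P → ℂ) g - ∑ i, a i * (ξ : Q → ℂ) (w i)) • (ξ : Q → ℂ) = 0 := by
      rw [← h2]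
      funext x
      rw [Finset.sum_apply]
      rfl
    rw [h4, Core.classInner_zero_left] at h3
    exact sub_eq_zero.1 h3.symm
  -- step two
  obtain ⟨m, hm⟩ := Core.exists_nat_comb hψ
  have hm' : ψ = fun x => ∑ η : IrrCharacter P, (m η : ℂ) * (η : P → ℂ) x := by
    funext x
    rw [congrFun hm x, Finset.sum_apply]
    exact Finset.sum_congr rfl fun η _ => by rw [Pi.smul_apply, nsmul_eq_mul]
  have h2 : ∀ x : Q, φ x = ∑ ζ : IrrCharacter Q, (m (e.symm ζ).1 : ℂ) * (ζ : Q → ℂ) x := by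
    have h3 := hS (φ - fun x => ∑ ζ : IrrCharacter Q, (m (e.symm ζ).1 : ℂ) * (ζ : Q → ℂ) x)
      (fun x y => congrArg₂ (· - ·) (hφ x y) (hcl (fun ζ => (m (e.symm ζ).1 : ℂ)) x y))
      fun k => by rw [mu_sub, mu_lin, ← hsum (fun η => (m η : ℂ)) k, ← hc k, ← mu_lin, ← hm', sub_self]
    exact fun x => sub_eq_zero.1 (congrFun h3 x)
  -- step three
  have h3 := congrFun hm' g
  rw [sum_sub (fun η : IrrCharacter P => mu A₀ (η : P → ℂ) ≠ 0)] at h3
  · rw [h3, ← e.symm.sum_comp]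
    simp only [h1, Finset.mul_sum]
    rw [Finset.sum_comm]
    refine Finset.sum_congr rfl fun i _ => ?_
    rw [h2 (w i), Finset.mul_sum]
    exact Finset.sum_congr rfl fun ζ _ => by ring
  · intro η h0
    by_contra hne
    refine h0 (hg _ η.2 ?_ (right_ne_zero_of_mul hne))
    rw [hm, Core.classInner_sum_nsmul_irr]
    exact left_ne_zero_of_mul hne

end abs

variable {I W Y : Type*} [Fintype I] [DecidableEq I] [Group W] [Group Y] {M : CoxeterMatrix I}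
  {cs : CoxeterSystem M W} {A : I → I → ℤ} {h : IsCartan M A} {p : ℕ} {T : Subgroup Y} {n : I → Y}
  {X : (I → ℤ) → Subgroup Y} [Finite W]

theorem Span.eq {J : Set I} (hS : Span cs J) {f : WJ cs J → ℂ} (hf : IsClassFunction _ f)
    (h0 : ∀ K ⊆ J, mu ((WJ cs K).subgroupOf (WJ cs J)) f = 0) : f = 0 := by
  funext x
  have h1 := hS (extendByZero _ f) (fun x hx y hy => by
    rw [ext_apply_mem _ f x hx, ext_apply_mem _ f _ (mul_mem (mul_mem hy hx) (inv_mem hy))]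
    exact hf ⟨x, hx⟩ ⟨y, hy⟩) (fun K hK => by
    rw [← mu_rel (WJ_mono cs hK) f _ (ext_apply_coe _ f)]
    exact h0 K hK) x x.2
  rwa [ext_apply_coe] at h1

theorem cntW_eq {J K : Set I} (hK : K ⊆ J) (w : WJ cs J) :
    (Nat.card {x : WJ cs J // x⁻¹ * w * x ∈ (WJ cs K).subgroupOf (WJ cs J)} : ℂ) /
      Nat.card ((WJ cs K).subgroupOf (WJ cs J)) = cntW cs J K w := by
  rw [card_rel (WJ_mono cs hK)]
  rfl

variable [Fintype Y] (R : RGD cs h p T n X)
include R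

theorem card_levi (J : Set I) (q : Y → Prop) (hq : ∀ l ∈ LJ cs h T X J, ∀ v ∈ VJ cs h X J, q (l * v) ↔ q l) :
    Nat.card {x : PJ cs h T X J // q x} = Nat.card {l : LJ cs h T X J // q l} * Nat.card (VJ cs h X J) := by
  rw [← Nat.card_prod]
  symm
  refine Nat.card_congr (Equiv.trans ?_ ((levi R J).subtypeEquiv (p := fun x => q x.1) fun x => ?_))
  · exact
      { toFun := fun x => ⟨(x.1.1, x.2), x.1.2⟩
        invFun := fun x => (⟨x.1.1, x.2⟩, x.1.2)
        left_inv := fun _ => rfl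
        right_inv := fun _ => rfl }
  · exact (hq _ x.1.2 _ x.2.2).symm

theorem cntG_eq {J K : Set I} (_hK : K ⊆ J) (g : PJ cs h T X J) :
    (Nat.card {x : PJ cs h T X J // x⁻¹ * g * x ∈ (PJ cs h T X K).subgroupOf (PJ cs h T X J)} : ℂ) /
      Nat.card ((PJ cs h T X K).subgroupOf (PJ cs h T X J)) = cntG cs h T X J K g := by
  have h1 := card_levi R J (fun x => x⁻¹ * g * x ∈ PJ cs h T X K) fun l _ v hv => by
    have e : (l * v)⁻¹ * g * (l * v) = v⁻¹ * (l⁻¹ * g * l) * v := by group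
    rw [e, Subgroup.mul_mem_cancel_right _ (VJ_le_PK J K hv), Subgroup.mul_mem_cancel_left _ (inv_mem (VJ_le_PK J K hv))]
  have h2 := card_levi R J (fun x => x ∈ PJ cs h T X K) fun l _ v hv =>
    Subgroup.mul_mem_cancel_right _ (VJ_le_PK J K hv)
  have h3 : Nat.card {l : LJ cs h T X J // (l : Y) ∈ PJ cs h T X K} = Nat.card ↥(PJ cs h T X K ⊓ LJ cs h T X J) := by
    rw [← card_rel (inf_le_right : PJ cs h T X K ⊓ LJ cs h T X J ≤ _), Subgroup.inf_subgroupOf_right]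
    rfl
  have h4 : (Nat.card (VJ cs h X J) : ℂ) ≠ 0 := card_ne_zero'
  change (Nat.card {x : PJ cs h T X J // (x : Y)⁻¹ * g * x ∈ PJ cs h T X K} : ℂ) /
    Nat.card {x : PJ cs h T X J // (x : Y) ∈ PJ cs h T X K} = _
  rw [h1, h2, h3]
  push_cast
  rw [mul_div_mul_right _ _ h4]
  rfl

omit R in
theorem Av.cnt {J K K' : Set I} (hK : K ⊆ K') {g : Y} (hA : Av cs h T X J K' g) : cntG cs h T X J K g = 0 := by
  have : IsEmpty {x : LJ cs h T X J // (x : Y)⁻¹ * g * x ∈ PJ cs h T X K} :=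
    ⟨fun x => hA x.1 x.1.2 (PJ_mono hK x.2)⟩
  unfold cntG
  rw [Nat.card_of_isEmpty, Nat.cast_zero, zero_div]

omit R in
theorem One.cnt {J K : Set I} {g : Y} (h1 : One cs h T X J K g) : cntG cs h T X J K g = 1 := by
  have h3 : Nat.card {x : LJ cs h T X J // (x : Y)⁻¹ * g * x ∈ PJ cs h T X K} =
      Nat.card ↥(PJ cs h T X K ⊓ LJ cs h T X J) := by
    rw [← card_rel (inf_le_right : PJ cs h T X K ⊓ LJ cs h T X J ≤ _), Subgroup.inf_subgroupOf_right]
    exact Nat.card_congr (Equiv.subtypeEquivRight fun x => h1 x x.2)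
  unfold cntG
  rw [h3, div_self card_ne_zero']

omit R in
theorem one_self {J : Set I} {g : Y} (hg : g ∈ LJ cs h T X J) : One cs h T X J J g := fun _ hx =>
  ⟨fun _ => LJ_le_PJ hx, fun _ => LJ_le_PJ (mul_mem (mul_mem (inv_mem hx) hg) hx)⟩

/-- `g = m u`, `1 ≠ u ∈ X_a`, `m` centralises `M_a` -/
theorem one_of_unip {J : Set I} {a : I} (ha : a ∈ J) (ho : Orth A (J \ {a}) {a}) {y u : Y}
    (hy : y ∈ LJ cs h T X (J \ {a})) (hya : ∀ z ∈ MJ cs h X {a}, y * z = z * y) (hu : u ∈ X (sr a)) (hu1 : u ≠ 1) :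
    One cs h T X J (J \ {a}) (y * u) := by
  have huB : u ∈ RGD.B cs h T X := RGD.X_le_B (isRoot_sr cs h a) (sr_nonneg a) hu
  intro x hx
  refine ⟨fun h1 => ?_, fun h1 => mul_mem (mul_mem (inv_mem h1) (mul_mem (LJ_le_PJ hy) (B_le_PJ huB))) h1⟩
  obtain ⟨t, ht, m, hm, rfl⟩ := (mem_LJ_iff_mul R J).1 hx
  have hJ : J = J \ {a} ∪ {a} := by
    rw [Set.sdiff_union_self, Set.union_eq_left.2 (Set.singleton_subset_iff.2 ha)]
  rw [hJ, ho.MJ_union] at hm
  have hn : MJ cs h X (J \ {a}) ≤ Subgroup.normalizer (MJ cs h X {a} : Set Y) :=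
    le_trans (fun b hb => Subgroup.mem_centralizer_iff.2 fun c hc => (ho.comm R b hb c hc).symm)
      (Subgroup.centralizer_le_normalizer _)
  have h2 : m ∈ ((MJ cs h X (J \ {a}) ⊔ MJ cs h X {a} : Subgroup Y) : Set Y) := hm
  rw [Subgroup.coe_mul_of_left_le_normalizer_right _ _ hn, Set.mem_mul] at h2
  obtain ⟨b, hb, c, hc, rfl⟩ := h2
  have hl : t * b ∈ PJ cs h T X (J \ {a}) := LJ_le_PJ (mul_mem (T_le_LJ ht) (MJ_le_LJ _ hb))
  have hc' : (t * b) * c * (t * b)⁻¹ ∈ MJ cs h X {a} :=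
    (Subgroup.mem_normalizer_iff.1 (mul_mem (T_le_normalizer_MJ R {a} ht) (hn hb)) c).1 hc
  set d := (t * b) * c * (t * b)⁻¹ with hd
  have e1 : t * (b * c) = d * (t * b) := by rw [hd]; group
  rw [e1] at h1 ⊢
  refine mul_mem ?_ hl
  have h3 : d⁻¹ * u * d ∈ PJ cs h T X (J \ {a}) := by
    have e2 : (d * (t * b))⁻¹ * (y * u) * (d * (t * b)) = (t * b)⁻¹ * (y * (d⁻¹ * u * d)) * (t * b) := by
      have e3 := hya _ (inv_mem hc')
      calc (d * (t * b))⁻¹ * (y * u) * (d * (t * b)) = (t * b)⁻¹ * ((d⁻¹ * y) * u * d) * (t * b) := by group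
        _ = _ := by rw [← e3]; group
    rwa [e2, Subgroup.mul_mem_cancel_right _ hl, Subgroup.mul_mem_cancel_left _ (inv_mem hl),
      Subgroup.mul_mem_cancel_left _ (LJ_le_PJ hy)] at h1
  obtain ⟨w, hw, b₁, hb₁, k, hk, b₂, hb₂, e⟩ := (mem_LJ R).1 (MJ_le_LJ (T := T) _ hc')
  rcases Bldg.mem_WJ_singleton.1 hw with rfl | rfl
  · rw [e]
    exact B_le_PJ (mul_mem (mul_mem (BJ_le_B _ hb₁) (RGD.T_le_B hk.mem_of_one)) (BJ_le_B _ hb₂))
  · exfalso
    have hN : BJ cs h T X {a} ≤ Subgroup.normalizer (X (sr a) : Set Y) := by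
      refine sup_le (fun s hs => mem_normalizer_iff_cj.2 (R.tor _ (isRoot_sr cs h a) s hs))
        (le_trans (RGD.Sup_le fun z hz => ?_) Subgroup.le_normalizer)
      rw [hz.1.eq_sr hz.2.1 a hz.2.2]
    have h4 : b₁⁻¹ * u * b₁ ∈ X (sr a) := by
      have := (Subgroup.mem_normalizer_iff.1 (inv_mem (hN hb₁)) u).1 hu
      rwa [inv_inv] at this
    have h5 : k⁻¹ * (b₁⁻¹ * u * b₁) * k ∈ X (-sr a) := by
      have := R.conj_mem' hk (isRoot_sr cs h a) h4
      rwa [cs.inv_simple, rep_simple_sr] at this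
    have h6 : k⁻¹ * (b₁⁻¹ * u * b₁) * k ≠ 1 := by
      intro h7
      apply hu1
      have e4 : u = b₁ * k * (k⁻¹ * (b₁⁻¹ * u * b₁) * k) * k⁻¹ * b₁⁻¹ := by group
      rw [e4, h7]
      group
    have h7 : k⁻¹ * (b₁⁻¹ * u * b₁) * k ∈ PJ cs h T X (J \ {a}) := by
      have e4 : k⁻¹ * (b₁⁻¹ * u * b₁) * k = b₂ * (d⁻¹ * u * d) * b₂⁻¹ := by rw [e]; group
      rw [e4]
      exact mul_mem (mul_mem (B_le_PJ (BJ_le_B _ hb₂)) h3) (inv_mem (B_le_PJ (BJ_le_B _ hb₂)))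
    obtain ⟨a', ha', s, hs, b', hb', e5⟩ := R.rk1 a _ h5 h6
    have h8 : Cell R.nsys cs h X (cs.simple a) (k⁻¹ * (b₁⁻¹ * u * b₁) * k) :=
      ⟨a' * s, mul_mem (RGD.X_le_B (isRoot_sr cs h a) (sr_nonneg a) ha') (RGD.T_le_B hs), n a, rp_simple cs R.nsys a,
        b', RGD.X_le_B (isRoot_sr cs h a) (sr_nonneg a) hb', e5⟩
    exact simple_not_mem h (fun h9 => h9.2 rfl) ((cell_mem_PJ_iff R h8).1 h7)

variable (hG : GG cs h T X = ⊤) {χ : Y → ℂ} (hχ : IsIrrCharacter Y χ) {φ : W → ℂ} (hφ : IsIrrCharacter W φ)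
  (hc : Cor cs h T X χ φ)
include hG hχ hφ hc

theorem mu_ne_of_fpf {J : Set I} [Fintype (PJ cs h T X J)] {g : Y} (hg : Fpf cs h T X J g) {η : PJ cs h T X J → ℂ}
    (hη : IsIrrCharacter _ η) (h1 : classInner (χ ∘ (PJ cs h T X J).subtype) η ≠ 0) (h0 : η ⟨g, LJ_le_PJ hg.1⟩ ≠ 0) :
    mu ((PJ cs h T X ∅).subgroupOf (PJ cs h T X J)) η ≠ 0 := by
  obtain ⟨K, hK, α, hα, hcu, h3⟩ := rel_of_fpf R hg hη h0
  have h4 : Ser R χ K α := ⟨hα, hcu, ne_of_rel R hK hα hη h3 hχ h1⟩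
  obtain rfl := (hc.pser R hφ).eq_empty R hG hχ h4
  obtain ⟨w, hw, x, hx, h5⟩ := Ser.sk R hG hχ h4 ((hc.pser R hφ).ser R hχ)
  have h6 : α = 1 := funext fun l => h5 l l.2 (cj_mem_LJ R hx hw l.2)
  rw [← inner_ind_one _ (Core.isIrr_isCharacter hη)]
  rw [h6] at h3
  exact h3

theorem val {J : Set I} (hS : Span cs J) {g : Y} (hg : Fpf cs h T X J g) {ι : Type*} [Fintype ι] (a : ι → ℂ)
    (w : ι → W) (hw : ∀ i, w i ∈ WJ cs J) (hcnt : ∀ K ⊆ J, cntG cs h T X J K g = ∑ i, a i * cntW cs J K (w i)) :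
    χ g = ∑ i, a i * φ (w i) := by
  have : Fintype (PJ cs h T X J) := Fintype.ofFinite _
  have : Fintype (WJ cs J) := Fintype.ofFinite _
  obtain ⟨e, he⟩ := equiv_rel R hG J
  exact val_abs (κ := {K : Set I // K ⊆ J}) (fun K => (PJ cs h T X K.1).subgroupOf (PJ cs h T X J))
    (fun K => (WJ cs K.1).subgroupOf (WJ cs J)) ((PJ cs h T X ∅).subgroupOf (PJ cs h T X J))
    (fun K _ hx => PJ_mono (Set.empty_subset K.1) hx) e (fun η K => he η K.1 K.2)
    (fun f hf h0 => hS.eq hf fun K hK => h0 ⟨K, hK⟩)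
    (Core.isCharacter_comp (PJ cs h T X J).subtype (Core.isIrr_isCharacter hχ))
    (φ := fun x : WJ cs J => φ x) (fun x y => Core.isIrr_isClassFunction hφ _ _)
    (fun K => (mu_rel (PJ_mono K.2) _ χ fun _ => rfl).trans
      ((hc K.1).trans (mu_rel (WJ_mono cs K.2) _ φ fun _ => rfl).symm))
    (g := ⟨g, LJ_le_PJ hg.1⟩) (fun η hη h1 h0 => mu_ne_of_fpf R hG hχ hφ hc hg hη h1 h0) a (fun i => ⟨w i, hw i⟩)
    fun K => (cntG_eq R K.2 _).trans ((hcnt K.1 K.2).trans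
      (Finset.sum_congr rfl fun i _ => congrArg _ (cntW_eq K.2 ⟨w i, hw i⟩).symm))

/-- elliptic on `E`, regular unipotent on `J - E` -/
theorem val_ell {J E : Set I} (hS : Span cs J) {g : Y} (hg : Fpf cs h T X J g) (hE : E ⊆ J) (ho : Orth A E (J \ E))
    {c : W} (hw : EllW cs J E c) (hA : ∀ j ∈ E, Av cs h T X J (J \ {j}) g)
    (h1 : ∀ K, E ⊆ K → K ⊆ J → One cs h T X J K g) : χ g = mu (WJ cs (J \ E)) fun y => φ (c * y) := by
  classical
  have : Fintype (WJ cs (J \ E)) := Fintype.ofFinite _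
  have hcm : Cm cs E (J \ E) := cm_of_orth h ho
  have hJ : E ∪ J \ E = J := Set.union_sdiff_cancel hE
  have hN : WJ cs (J \ E) ≤ WJ cs J := WJ_mono cs Set.sdiff_subset
  rw [val R hG hχ hφ hc hS hg (fun _ : WJ cs (J \ E) => (Nat.card (WJ cs (J \ E)) : ℂ)⁻¹) (fun y => c * y)
    (fun y => mul_mem (WJ_mono cs hE hw.1) (hN y.2)), mu_sum, Finset.mul_sum]
  intro K hK
  by_cases hEK : E ⊆ K
  · rw [(h1 K hEK hK).cnt, ← Finset.mul_sum]
    have hNor : ((WJ cs (J \ E)).subgroupOf (WJ cs J)).Normal := ⟨fun y hy x => by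
      have := hcm.conj' (x := (x : W)⁻¹) (by rw [hJ]; exact inv_mem x.2) hy
      rwa [inv_inv] at this⟩
    have : Fintype ((WJ cs (J \ E)).subgroupOf (WJ cs J)) := Fintype.ofFinite _
    have h2 := sum_normal ((WJ cs (J \ E)).subgroupOf (WJ cs J)) ((WJ cs K).subgroupOf (WJ cs J)) (by
      rw [eq_top_iff]
      rintro ⟨x, hx⟩ -
      obtain ⟨a, ha, b, hb, rfl⟩ := hcm.symm.exists_mul (x := x) (by rwa [Set.union_comm, hJ])
      exact mul_mem (a := (⟨a, hN ha⟩ : WJ cs J)) (b := ⟨b, WJ_mono cs hE hb⟩) (Subgroup.mem_sup_left ha)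
        (Subgroup.mem_sup_right (WJ_mono cs hEK hb)))
    rw [card_rel hN, card_rel (WJ_mono cs hK)] at h2
    have h3 : ∑ y : WJ cs (J \ E), cntW cs J K (c * y) = Nat.card (WJ cs (J \ E)) := by
      unfold cntW
      rw [← Finset.sum_div, div_eq_iff card_ne_zero', ← h2]
      symm
      refine Fintype.sum_equiv (Subgroup.subgroupOfEquivOfLe hN).toEquiv _ _ fun y => ?_
      congr 1
      refine Nat.card_congr (Equiv.subtypeEquivRight fun x => ?_)
      have h4 : (x : W)⁻¹ * c * x ∈ WJ cs K := WJ_mono cs hEK (hcm.conj (by rw [hJ]; exact x.2) hw.1)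
      have e : (x : W)⁻¹ * (c * ((y : WJ cs J) : W)) * x = ((x : W)⁻¹ * c * x) * ((x : W)⁻¹ * ((y : WJ cs J) : W) * x) := by
        group
      change (x : W)⁻¹ * ((y : WJ cs J) : W) * x ∈ WJ cs K ↔ (x : W)⁻¹ * (c * ((y : WJ cs J) : W)) * x ∈ WJ cs K
      rw [e, Subgroup.mul_mem_cancel_left _ h4]
    rw [h3, inv_mul_cancel₀ card_ne_zero']
  · obtain ⟨j, hj, hjK⟩ := Set.not_subset.1 hEK
    have hKj : K ⊆ J \ {j} := fun k hk => ⟨hK hk, fun e => hjK (e ▸ hk)⟩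
    rw [(hA j hj).cnt hKj]
    symm
    refine Finset.sum_eq_zero fun y _ => ?_
    have : IsEmpty {x : WJ cs J // (x : W)⁻¹ * (c * y) * x ∈ WJ cs K} := ⟨fun x => by
      apply hw.2 j hj _ (inv_mem x.1.2)
      have h4 : (x.1 : W)⁻¹ * y * x.1 ∈ WJ cs (J \ {j}) :=
        WJ_mono cs (Set.sdiff_subset_sdiff_right (Set.singleton_subset_iff.2 hj))
          (hcm.conj' (by rw [hJ]; exact x.1.2) y.2)
      have e : (x.1 : W)⁻¹ * c * (x.1 : W)⁻¹⁻¹ = ((x.1 : W)⁻¹ * (c * y) * x.1) * ((x.1 : W)⁻¹ * y * x.1)⁻¹ := by group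
      rw [e]
      exact mul_mem (WJ_mono cs hKj x.2) (inv_mem h4)⟩
    have h0 : cntW cs J K (c * y) = 0 := by
      unfold cntW
      rw [Nat.card_of_isEmpty, Nat.cast_zero, zero_div]
    rw [h0, mul_zero]

theorem val_ell0 {J : Set I} (hS : Span cs J) {g : Y} (hg : Fpf cs h T X J g) {c : W} (hw : EllW cs J J c)
    (hA : ∀ j ∈ J, Av cs h T X J (J \ {j}) g) : χ g = φ c := by
  rw [val_ell R hG hχ hφ hc hS hg subset_rfl (fun _ _ j hj => absurd hj.1 hj.2) hw hA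
    (fun K h1 h2 => by rw [Set.Subset.antisymm h2 h1]; exact one_self hg.1), Set.sdiff_self, WJ_empty',
    H116.HeckeU.mu_bot, mul_one]

theorem val_ell1 {J : Set I} {a : I} (hS : Span cs J) {g : Y} (hg : Fpf cs h T X J g) (ha : a ∈ J)
    (ho : Orth A (J \ {a}) {a}) {c : W} (hw : EllW cs J (J \ {a}) c) (hA : ∀ j ∈ J, j ≠ a → Av cs h T X J (J \ {j}) g)
    (h1 : One cs h T X J (J \ {a}) g) : χ g = (φ c + φ (c * cs.simple a)) / 2 := by
  classical
  have e : J \ (J \ {a}) = {a} := Set.sdiff_sdiff_cancel_left (Set.singleton_subset_iff.2 ha)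
  rw [val_ell R hG hχ hφ hc hS hg Set.sdiff_subset (by rwa [e]) hw (fun j hj => hA j hj.1 hj.2), e]
  · have hne : (1 : W) ≠ cs.simple a := fun h0 =>
      simple_not_mem (cs := cs) h (Set.notMem_empty a) (h0 ▸ one_mem _)
    have : Fintype (WJ cs {a}) := Fintype.ofFinite _
    have h2 : (Finset.univ : Finset (WJ cs {a})) = {1, ⟨cs.simple a, simple_mem_WJ cs rfl⟩} := by
      ext x
      simp only [Finset.mem_univ, Finset.mem_insert, Finset.mem_singleton, true_iff, Subtype.ext_iff]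
      exact Bldg.mem_WJ_singleton.1 x.2
    have h3 : (1 : WJ cs {a}) ≠ ⟨cs.simple a, simple_mem_WJ cs rfl⟩ := fun h0 => hne (congrArg Subtype.val h0)
    rw [mu_sum, Nat.card_eq_fintype_card, ← Finset.card_univ, h2, Finset.sum_pair h3, Finset.card_pair h3]
    simp only [OneMemClass.coe_one, mul_one]
    push_cast
    ring
  · intro K h2 h3
    by_cases haK : a ∈ K
    · have h4 : K = J := Set.Subset.antisymm h3 fun j hj => by
        by_cases hja : j = a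
        · rwa [hja]
        · exact h2 ⟨hj, hja⟩
      rw [h4]
      exact one_self hg.1
    · have h4 : K = J \ {a} := Set.Subset.antisymm (fun k hk => ⟨h3 hk, fun e => haK (e ▸ hk)⟩) h2
      rwa [h4]

end Cfsg.Agent.VAN.HC
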