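import Cfsg.Agent.VAN.HC.Sup
import Cfsg.Agent.VAN.HC.Cor
import Cfsg.Agent.VAN.HC.Val
import Cfsg.Agent.VAN.HC.Chain
import Cfsg.Agent.VAN.HC.Trans
import Cfsg.Agent.VAN.HC.Deg

/-!
# S4942: the general theorems of the Harish-Chandra method (helper82)
-/
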