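import Cfsg.Agent.H45.GG.Cusp
import Cfsg.Agent.H45.GG.Series
import Cfsg.Agent.H439.CC.Defs
import Cfsg.Agent.H53.HC.Prod
import Cfsg.Agent.VAN.Iface

/-!
# S4942, groups of Lie type: the notions of the Harish-Chandra method (helper82)

`R : RGD cs h p T n X` a root group datum of a finite group `Y`.

* `Fpf J g` : `g ∈ L_J` has no fixed point on `V_J`;  `Av J K g` : no `L_J`-conjugate of `g` is in `P_K`;
* `cntG J K g`, `cntW J K w` : the numbers of fixed cosets of `P_K ∩ L_J` in `L_J`, of `W_K` in `W_J`;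
* `Ser χ K α` : `χ` is in the Harish-Chandra series of the cuspidal pair `(K, α)`;
* `Big J J' K S` : no `W_J`-conjugate of `W_K ∪ (S ∩ W_J)` is contained in `W_J'`;
* `Lin T θ`, `PSer χ θ`, `Stab θ` : linear characters of `T`, principal series, the stabiliser in `W`;
* `Chain M J c` : `c` lists the nodes of a component of type `A` of `J`;
* `Span J` : a class function on `W_J` is determined by its means over the parabolic subgroups;
* `EllW J E c` : `c ∈ W_E` and no `W_J`-conjugate of `c` is in `W_(J - j)`, `j ∈ E`.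
-/

set_option autoImplicit false

open scoped ComplexConjugate

namespace Cfsg.Agent.VAN.HC

open CoxeterSystem Cfsg Cfsg.Agent.ChevalleyStructure.CoxeterGeom Cfsg.Agent.Tits.Roots Cfsg.Agent.Tits.Core
  Cfsg.Agent.Nodes.Reps Cfsg.Agent.Nodes.BNOf Cfsg.Agent.Nodes.Bruhat Cfsg.Agent.Nodes.LeviDec
  Cfsg.Agent.H641.Gow
open Cfsg.Agent.H439.CC (mu)

section Weyl

variable {I W : Type*} [Group W] {M : CoxeterMatrix I} (cs : CoxeterSystem M W)

/-- the number of cosets of `W_K` in `W_J` fixed by `w` -/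
noncomputable def cntW (J K : Set I) (w : W) : ℂ :=
  (Nat.card {x : WJ cs J // (x : W)⁻¹ * w * x ∈ WJ cs K} : ℂ) / Nat.card (WJ cs K)

/-- no `W_J`-conjugate of `W_K ∪ (S ∩ W_J)` is contained in `W_J'` -/
def Big (J J' K : Set I) (S : Set W) : Prop :=
  ∀ u ∈ WJ cs J, ¬ ((∀ k ∈ K, u * cs.simple k * u⁻¹ ∈ WJ cs J') ∧ ∀ w ∈ S, w ∈ WJ cs J → u * w * u⁻¹ ∈ WJ cs J')

theorem Big.mono {J J' K : Set I} {S S' : Set W} (h : Big cs J J' K S) (hS : S ⊆ S') : Big cs J J' K S' :=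
  fun u hu h1 => h u hu ⟨h1.1, fun w hw => h1.2 w (hS hw)⟩

/-- a class function on `W_J` is determined by its means over the parabolic subgroups -/
def Span (J : Set I) : Prop :=
  ∀ f : W → ℂ, (∀ x ∈ WJ cs J, ∀ y ∈ WJ cs J, f (y * x * y⁻¹) = f x) → (∀ K ⊆ J, mu (WJ cs K) f = 0) →
    ∀ x ∈ WJ cs J, f x = 0

/-- `c ∈ W_E` and no `W_J`-conjugate of `c` is in `W_(J - j)`, `j ∈ E` -/
def EllW (J E : Set I) (c : W) : Prop :=
  c ∈ WJ cs E ∧ ∀ j ∈ E, ∀ u ∈ WJ cs J, u * c * u⁻¹ ∉ WJ cs (J \ {j})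

end Weyl

/-- `c` lists the nodes of a component of type `A_m` of `J` (for `m = 1`: any isolated node of `J`) -/
structure Chain {I : Type*} (M : CoxeterMatrix I) (J : Set I) {m : ℕ} (c : Fin m → I) : Prop where
  inj : Function.Injective c
  mem : ∀ i, c i ∈ J
  adj : ∀ i j : Fin m, (i : ℕ) + 1 = j → M (c i) (c j) = 3
  far : ∀ i j : Fin m, (i : ℕ) + 1 < j → M (c i) (c j) = 2
  orth : ∀ i, ∀ j ∈ J, j ∉ Set.range c → M (c i) j = 2

/-- `θ` is a linear character on the subgroup `T` (arbitrary values outside `T`) -/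
structure Lin {Y : Type*} [Group Y] (T : Subgroup Y) (θ : Y → ℂ) : Prop where
  one : θ 1 = 1
  mul : ∀ a ∈ T, ∀ b ∈ T, θ (a * b) = θ a * θ b

variable {I W Y : Type*} [Fintype I] [DecidableEq I] [Group W] [Group Y] {M : CoxeterMatrix I}

section Grp

variable (cs : CoxeterSystem M W) {A : I → I → ℤ} (h : IsCartan M A) (T : Subgroup Y) (X : (I → ℤ) → Subgroup Y)

/-- `g ∈ L_J` has no fixed point on `V_J` -/
def Fpf (J : Set I) (g : Y) : Prop := g ∈ LJ cs h T X J ∧ ∀ v ∈ VJ cs h X J, g * v = v * g → v = 1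

/-- no `L_J`-conjugate of `g` is in `P_K` -/
def Av (J K : Set I) (g : Y) : Prop := ∀ x ∈ LJ cs h T X J, x⁻¹ * g * x ∉ PJ cs h T X K

/-- the number of cosets of `P_K ∩ L_J` in `L_J` fixed by `g` -/
noncomputable def cntG (J K : Set I) (g : Y) : ℂ :=
  (Nat.card {x : LJ cs h T X J // (x : Y)⁻¹ * g * x ∈ PJ cs h T X K} : ℂ) /
    Nat.card ↥(PJ cs h T X K ⊓ LJ cs h T X J)

/-- `g` fixes only the trivial coset of `P_K ∩ L_J` in `L_J` -/
def One (J K : Set I) (g : Y) : Prop :=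
  ∀ x ∈ LJ cs h T X J, x⁻¹ * g * x ∈ PJ cs h T X K ↔ x ∈ PJ cs h T X K

/-- `χ` is a constituent of the character induced from the linear character `θ` of `B = T U` -/
def PSer (χ θ : Y → ℂ) : Prop :=
  Lin T θ ∧ ∑ᶠ (t : T) (u : RGD.Sup X (RGD.Pos cs h)), χ (t * u) * conj (θ t) ≠ 0

/-- the character `φ` of `W` belongs to the constituent `χ` of `1_B^G` -/
def Cor (χ : Y → ℂ) (φ : W → ℂ) : Prop := ∀ K : Set I, mu (PJ cs h T X K) χ = mu (WJ cs K) φ

end Grp

variable {cs : CoxeterSystem M W} {A : I → I → ℤ} {h : IsCartan M A} {p : ℕ} {T : Subgroup Y} {n : I → Y}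
  {X : (I → ℤ) → Subgroup Y} (R : RGD cs h p T n X)

/-- `χ` is in the Harish-Chandra series of the cuspidal pair `(K, α)` -/
structure Ser [Finite W] [Fintype Y] (χ : Y → ℂ) (K : Set I) (α : ↥(LJ cs h T X K) → ℂ) : Prop where
  irr : IsIrrCharacter _ α
  cusp : CuspL cs h T X K α
  ne : classInner (HC R K α) χ ≠ 0

/-- the stabiliser in `W` of a linear character of `T` -/
def Stab (θ : Y → ℂ) : Set W := {w | ∀ g, Rp cs R.nsys w g → ∀ t ∈ T, θ (g⁻¹ * t * g) = θ t}

end Cfsg.Agent.VAN.HC
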