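import Cfsg.Agent.H45.GG.Mackey
import Cfsg.Agent.H53.HC.Series
import Cfsg.Agent.S0147
import Cfsg.Agent.CharactersDeep.Tifn

/-!
# S4942: induction inside a subgroup (helper82)

* `ind G₀ H α` : the function induced from `H` to `G₀`;
* `zero_of_sub` : `H ≤ P`, the Mackey terms of `α ∈ Irr(H)` vanish outside `P`: the constituents of the induced character
  vanish on the elements not conjugate into `P`; `zero_of_sub'` : the same inside `G₀`;
* `sum_dc` : the sum of a function constant on double cosets;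
* `exists_conj_of_fpf` : `g` normalises `V` without fixed points: the coset `g V` is one `V`-class.
-/

set_option autoImplicit false
set_option linter.unusedSectionVars false

open scoped ComplexConjugate
open Cfsg

namespace Cfsg.Agent.VAN.HC

open Cfsg.Agent.OddOrderCharacters.Clifford Cfsg.Agent.Characters
open Cfsg.Agent.H45.GG (tw tw_def ds DK sum_double_coset classInner_ind)
open Cfsg.Agent.H246.Dl (classInner_symm_ne)

variable {G : Type*} [Group G]

/-- a function on `H` as a function on `H ∩ G₀ ≤ G₀` -/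
def rel (G₀ H : Subgroup G) (α : H → ℂ) : H.subgroupOf G₀ → ℂ :=
  fun x => α ⟨(x : G₀), Subgroup.mem_subgroupOf.mp x.2⟩

/-- induction from `H` to `G₀` -/
noncomputable def ind (G₀ : Subgroup G) [Fintype G₀] (H : Subgroup G) (α : H → ℂ) : G₀ → ℂ :=
  indFun (H.subgroupOf G₀) (rel G₀ H α)

theorem rel_eq {G₀ H : Subgroup G} (hH : H ≤ G₀) (α : H → ℂ) :
    rel G₀ H α = α ∘ (Subgroup.subgroupOfEquivOfLe hH).toMonoidHom := rfl

theorem ext_rel (G₀ H : Subgroup G) (α : H → ℂ) (x : G₀) :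
    extendByZero (H.subgroupOf G₀) (rel G₀ H α) x = extendByZero H α x :=
  S0147.extend_subgroupOf H G₀ α x

theorem rel_irr {G₀ H : Subgroup G} (hH : H ≤ G₀) {α : H → ℂ} (hα : IsIrrCharacter H α) :
    IsIrrCharacter _ (rel G₀ H α) := by
  rw [rel_eq hH]
  exact Core.isIrr_comp _ (MulEquiv.surjective _) hα

theorem rel_char {G₀ H : Subgroup G} (hH : H ≤ G₀) {α : H → ℂ} (hα : IsCharacter H α) :
    IsCharacter _ (rel G₀ H α) := by
  rw [rel_eq hH]
  exact Core.isCharacter_comp _ hα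

theorem ind_char {G₀ H : Subgroup G} [Fintype G₀] (hH : H ≤ G₀) {α : H → ℂ} (hα : IsCharacter H α) :
    IsCharacter _ (ind G₀ H α) :=
  S0148.result _ _ (rel_char hH hα)

theorem ind_trans [Fintype G] {G₀ H : Subgroup G} [Fintype G₀] (hH : H ≤ G₀) (α : H → ℂ) :
    indFun G₀ (ind G₀ H α) = indFun H α :=
  S0147.result H G₀ hH α

theorem card_rel {G₀ H : Subgroup G} (hH : H ≤ G₀) : Nat.card (H.subgroupOf G₀) = Nat.card H :=
  Nat.card_congr (Subgroup.subgroupOfEquivOfLe hH).toEquiv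

theorem ind_apply {G₀ H : Subgroup G} [Fintype G₀] (hH : H ≤ G₀) (α : H → ℂ) (g : G₀) :
    ind G₀ H α g = (Nat.card H : ℂ)⁻¹ * ∑ x : G₀, extendByZero H α ((x : G)⁻¹ * g * x) := by
  unfold ind
  rw [indFun_apply, card_rel hH]
  congr 1
  exact Finset.sum_congr rfl fun x _ => ext_rel G₀ H α _

/-- Frobenius reciprocity -/
theorem classInner_ind_left {G₀ H : Subgroup G} [Fintype G₀] [Fintype H] (hH : H ≤ G₀) (α : H → ℂ) {ψ : G₀ → ℂ}
    (hψ : IsClassFunction G₀ ψ) : classInner (ind G₀ H α) ψ = classInner α (ψ ∘ Subgroup.inclusion hH) := by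
  classical
  have : Fintype (H.subgroupOf G₀) := Fintype.ofFinite _
  unfold ind
  rw [classInner_indFun _ _ _ hψ, classInner_apply, classInner_apply, card_rel hH]
  congr 1
  exact Fintype.sum_equiv (Subgroup.subgroupOfEquivOfLe hH).toEquiv _ _ fun t => rfl

theorem tw_rel {G₀ H K : Subgroup G} [Fintype H] [Fintype (H.subgroupOf G₀)] (hH : H ≤ G₀) (α : H → ℂ) (β : K → ℂ)
    (x : G₀) : tw (H.subgroupOf G₀) (K.subgroupOf G₀) (rel G₀ H α) (rel G₀ K β) x = tw H K α β x := by
  rw [tw_def, tw_def]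
  refine Fintype.sum_equiv (Subgroup.subgroupOfEquivOfLe hH).toEquiv _ _ fun t => ?_
  rw [ext_rel]
  rfl

theorem classInner_ind_ind {G₀ H K : Subgroup G} [Fintype G₀] [Fintype H] (hH : H ≤ G₀) (hK : K ≤ G₀) (α : H → ℂ)
    (β : K → ℂ) : classInner (ind G₀ H α) (ind G₀ K β) =
      (Nat.card H : ℂ)⁻¹ * ((Nat.card K : ℂ)⁻¹ * ∑ x : G₀, tw H K α β x) := by
  classical
  have : Fintype (H.subgroupOf G₀) := Fintype.ofFinite _
  have : Fintype (K.subgroupOf G₀) := Fintype.ofFinite _
  unfold ind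
  rw [classInner_ind, card_rel hH, card_rel hK]
  congr 2
  exact Finset.sum_congr rfl fun x _ => tw_rel hH α β x

/-- a constituent of a constituent -/
theorem ne_zero_trans [Fintype G] (P : Subgroup G) [Fintype P] {Ψ η : P → ℂ} (hΨ : IsCharacter P Ψ)
    (hη : IsIrrCharacter P η) (h1 : classInner Ψ η ≠ 0) {χ : G → ℂ} (hχ : IsCharacter G χ)
    (h2 : classInner (χ ∘ P.subtype) η ≠ 0) : classInner (indFun P Ψ) χ ≠ 0 := by
  rw [classInner_indFun P Ψ χ (Core.isCharacter_isClassFunction hχ)]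
  have hr : IsCharacter P (χ ∘ P.subtype) := Core.isCharacter_comp _ hχ
  have e : Ψ = η + (Ψ - η) := by ring
  rw [e, Core.classInner_add_left]
  obtain ⟨a, ea⟩ := Core.classInner_isNat (Core.isIrr_isCharacter hη) hr
  obtain ⟨b, eb⟩ := Core.classInner_isNat (isCharacter_sub_irr hΨ hη h1) hr
  have h3 := classInner_symm_ne h2
  change classInner η (χ ∘ P.subtype) + classInner (Ψ - η) (χ ∘ P.subtype) ≠ 0
  rw [ea] at h3
  rw [ea, eb]
  have ha : a ≠ 0 := by
    rintro rfl
    exact h3 Nat.cast_zero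
  have : a + b ≠ 0 := by omega
  exact_mod_cast this

/-- **The constituents are induced from `P`.** -/
theorem zero_of_sub [Fintype G] {H P : Subgroup G} (hHP : H ≤ P) [Fintype H] {α : H → ℂ} (hα : IsIrrCharacter H α)
    (h : ∀ y, y ∉ P → tw H H α α y = 0) {ψ : G → ℂ} (hψ : IsIrrCharacter G ψ) (hne : classInner (indFun H α) ψ ≠ 0)
    {g : G} (hg : ∀ x, x⁻¹ * g * x ∉ P) : ψ g = 0 := by
  classical
  have : Fintype P := Fintype.ofFinite _
  rw [← ind_trans hHP, classInner_indFun P _ _ (Core.isIrr_isClassFunction hψ)] at hne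
  have hr : IsCharacter P (ψ ∘ P.subtype) := Core.isCharacter_comp _ (Core.isIrr_isCharacter hψ)
  obtain ⟨η, hη, h1, h2⟩ := H53.HC.exists_common (ind_char hHP (Core.isIrr_isCharacter hα)) hr hne
  have h3 : IsIrrCharacter G (indFun P η) := by
    refine H53.HC.isIrr_indFun_of_sub hHP hα h hη fun h0 => ?_
    rw [classInner_ind_left hHP α (Core.isIrr_isClassFunction hη)] at h1
    apply classInner_symm_ne h1
    rw [classInner_apply]
    have e : ∑ t : H, (η ∘ Subgroup.inclusion hHP) t * conj (α t) = ∑ t : H, η ⟨t, hHP t.2⟩ * conj (α t) := rfl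
    rw [e, h0, mul_zero]
  have h4 : indFun P η = ψ := by
    by_contra hne'
    have h5 := Core.classInner_irr_ne h3 hψ hne'
    rw [classInner_indFun P _ _ (Core.isIrr_isClassFunction hψ)] at h5
    exact classInner_symm_ne h2 h5
  rw [← h4, indFun_apply, Finset.sum_eq_zero, mul_zero]
  exact fun x _ => ext_apply_not_mem P η _ (hg x)

/-- the same inside `G₀` -/
theorem zero_of_sub' {G₀ H P : Subgroup G} [Fintype G₀] [Fintype H] (hHP : H ≤ P) (hH : H ≤ G₀) {α : H → ℂ}
    (hα : IsIrrCharacter H α) (h : ∀ y ∈ G₀, y ∉ P → tw H H α α y = 0) {ψ : G₀ → ℂ} (hψ : IsIrrCharacter G₀ ψ)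
    (hne : classInner (ind G₀ H α) ψ ≠ 0) {g : G₀} (hg : ∀ x ∈ G₀, x⁻¹ * g * x ∉ P) : ψ g = 0 := by
  classical
  have : Fintype (H.subgroupOf G₀) := Fintype.ofFinite _
  refine zero_of_sub (H := H.subgroupOf G₀) (P := P.subgroupOf G₀) (fun x hx => hHP hx) (rel_irr hH hα) ?_ hψ hne ?_
  · intro y hy
    rw [tw_rel hH]
    exact h y y.2 hy
  · intro x hx
    exact hg x x.2 hx

/-- the sum of a function which is constant on the double cosets -/
theorem sum_dc [Fintype G] (H K : Subgroup G) [Fintype H] [Fintype K] (F : G → ℂ)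
    (hF : ∀ a ∈ H, ∀ b ∈ K, ∀ y, F (a * y * b) = F y) {ι : Type*} [Fintype ι] (r : ι → G)
    (hdis : ∀ i j, DK H K (r i) (r j) → i = j) (h0 : ∀ x, (∀ i, ¬ DK H K (r i) x) → F x = 0)
    [∀ i, Fintype (ds H K (r i))] :
    ∑ x, F x = (Nat.card H : ℂ) * (Nat.card K : ℂ) * ∑ i, (Fintype.card (ds H K (r i)) : ℂ)⁻¹ * F (r i) := by
  classical
  have h1 : ∑ x : G, F x = ∑ i, ∑ x ∈ Finset.univ.filter (DK H K (r i)), F x := by
    rw [← Finset.sum_biUnion]
    · symm
      refine Finset.sum_subset (Finset.subset_univ _) fun x _ hx => ?_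
      apply h0
      intro i hi
      apply hx
      rw [Finset.mem_biUnion]
      exact ⟨i, Finset.mem_univ _, Finset.mem_filter.2 ⟨Finset.mem_univ _, hi⟩⟩
    · intro i _ j _ hij
      rw [Function.onFun, Finset.disjoint_left]
      intro x hxi hxj
      apply hij
      rw [Finset.mem_filter] at hxi hxj
      obtain ⟨a, ha, b, hb, e⟩ := hxi.2
      obtain ⟨c, hc, d, hd, e2⟩ := hxj.2
      apply hdis
      refine ⟨c⁻¹ * a, mul_mem (inv_mem hc) ha, b * d⁻¹, mul_mem hb (inv_mem hd), ?_⟩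
      have e3 : r j = c⁻¹ * x * d⁻¹ := by rw [e2]; group
      rw [e3, e]
      group
  have h2 : ∀ i, ∑ x ∈ Finset.univ.filter (DK H K (r i)), F x =
      (Nat.card H : ℂ) * (Nat.card K : ℂ) * ((Fintype.card (ds H K (r i)) : ℂ)⁻¹ * F (r i)) := by
    intro i
    refine sum_double_coset H K (r i) _ ?_
    rintro x ⟨a, ha, b, hb, rfl⟩
    exact hF a ha b hb _
  rw [h1, Finset.sum_congr rfl fun i _ => h2 i, ← Finset.mul_sum]

/-- two functions with the same four inner products are equal -/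
theorem eq_of_inner [Fintype G] {a b : G → ℂ} {c : ℂ} (h1 : classInner a a = c) (h2 : classInner a b = c)
    (h3 : classInner b a = c) (h4 : classInner b b = c) : a = b := by
  have h5 : classInner (a - b) (a - b) = 0 := by
    rw [Core.classInner_sub_left, Core.classInner_sub_right, Core.classInner_sub_right, h1, h2, h3, h4]
    ring
  exact sub_eq_zero.1 (Core.classInner_self_eq_zero h5)

/-- `g` normalises `V` and has no fixed point: the coset `g V` is a `V`-class -/
theorem exists_conj_of_fpf (V : Subgroup G) [Finite V] {g : G} (hg : g ∈ Subgroup.normalizer (V : Set G))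
    (h : ∀ v ∈ V, g * v = v * g → v = 1) {v : G} (hv : v ∈ V) : ∃ u ∈ V, g * v = u⁻¹ * g * u := by
  have hm : ∀ u : V, g⁻¹ * (u : G)⁻¹ * g * u ∈ V := fun u => by
    refine mul_mem ?_ u.2
    have h1 := (Subgroup.mem_normalizer_iff.1 (inv_mem hg) _).1 (inv_mem u.2)
    rwa [inv_inv] at h1
  let f : V → V := fun u => ⟨_, hm u⟩
  have hf : Function.Injective f := by
    intro a b hab
    have h1 : g⁻¹ * (a : G)⁻¹ * g * a = g⁻¹ * (b : G)⁻¹ * g * b := congrArg Subtype.val hab
    have h2 : g * ((a : G) * (b : G)⁻¹) = a * (b : G)⁻¹ * g := by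
      have h3 : g * ((a : G) * (b : G)⁻¹) = a * g * (g⁻¹ * (a : G)⁻¹ * g * a) * (b : G)⁻¹ := by group
      rw [h3, h1]
      group
    exact Subtype.ext (mul_inv_eq_one.1 (h _ (mul_mem a.2 (inv_mem b.2)) h2))
  obtain ⟨u, hu⟩ := Finite.surjective_of_injective hf ⟨v, hv⟩
  have h1 : g⁻¹ * (u : G)⁻¹ * g * u = v := congrArg Subtype.val hu
  exact ⟨u, u.2, by rw [← h1]; group⟩

/-- an irreducible character which does not vanish at an element acting without fixed points on the normal subgroup `V`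
has `V` in its kernel -/
theorem ker_of_fpf [Finite G] (V : Subgroup G) [hV : V.Normal] {g : G} (h : ∀ v ∈ V, g * v = v * g → v = 1)
    {ψ : G → ℂ} (hψ : IsIrrCharacter G ψ) (h0 : ψ g ≠ 0) : ∀ v ∈ V, ψ v = ψ 1 := by
  classical
  have : Fintype V := Fintype.ofFinite _
  by_contra hne
  push Not at hne
  have h1 := CharactersDeep.Tifn.sum_mul_eq_zero V hψ hne g
  have h2 : ∀ v : V, ψ (g * v) = ψ g := by
    intro v
    obtain ⟨u, -, e⟩ := exists_conj_of_fpf V (by rw [Subgroup.normalizer_eq_top]; trivial) h v.2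
    rw [e]
    have := Core.isIrr_isClassFunction hψ g u⁻¹
    rwa [inv_inv] at this
  rw [Finset.sum_congr rfl fun v _ => h2 v, Finset.sum_const, Finset.card_univ, nsmul_eq_mul] at h1
  have h3 : (Fintype.card V : ℂ) ≠ 0 := by
    have : 0 < Fintype.card V := Fintype.card_pos
    exact_mod_cast this.ne'
  exact h0 ((mul_eq_zero.1 h1).resolve_left h3)

end Cfsg.Agent.VAN.HC
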