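import Cfsg.Agent.VAN.HC.Abs
import Cfsg.Agent.VAN.HC.Defs
import Cfsg.Agent.RootAmalgam.Gamma

/-!
# S4942: Harish-Chandra series inside a parabolic subgroup `P_E` (helper82)

* `term_eq`, `mem_of_tw_ne` : the Mackey terms of two cuspidal pairs;
* `inner_rel`, `ind_eq` : Mackey's formula in `P_E`; conjugate pairs induce the same character of `P_E`;
* `exists_rel` : the series of an irreducible character of `P_E` with `V_E` in its kernel;
* `exists_tw` : transport of a cuspidal pair;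
* `exists_mp` : if `u W_K u⁻¹ ≤ W_J` then an element of `W_J u W_K` maps the simple roots of `K` to simple roots of `J`.
-/

set_option autoImplicit false
set_option linter.unusedSectionVars false

open scoped ComplexConjugate Pointwise
open Cfsg

namespace Cfsg.Agent.VAN.HC

open Cfsg.Agent.OddOrderCharacters.Clifford Cfsg.Agent.Characters Cfsg.Agent.H53.HC Cfsg.Agent.H641.Gow
  Cfsg.Agent.H45.GG

open CoxeterSystem Cfsg.Agent.ChevalleyStructure.CoxeterGeom Cfsg.Agent.Tits.Roots Cfsg.Agent.Tits.Core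
  Cfsg.Agent.Tits.Exchange Cfsg.Agent.Nodes.Reps Cfsg.Agent.Nodes.BNOf Cfsg.Agent.Nodes.StabComb
  Cfsg.Agent.Nodes.Bruhat Cfsg.Agent.Nodes.OppDec Cfsg.Agent.Nodes.LeviDec
open Cfsg.Agent.H246.Dl (sum_hom_ne_zero const_of_sum_ne_zero classInner_symm_ne PJ_mono)

variable {I W Y : Type*} [Fintype I] [DecidableEq I] [Group W] [Group Y] {M : CoxeterMatrix I}
  {cs : CoxeterSystem M W} {A : I → I → ℤ} {h : IsCartan M A} {p : ℕ} {T : Subgroup Y} {n : I → Y}
  {X : (I → ℤ) → Subgroup Y} [Finite W]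

/-! ### the Weyl group -/

theorem exists_minW (J K : Set I) (u : W) : ∃ y ∈ WJ cs J, ∃ z ∈ WJ cs K,
    (∀ j ∈ J, 0 ≤ rep cs h (y * u * z)⁻¹ (sr j)) ∧ ∀ i ∈ K, 0 ≤ rep cs h (y * u * z) (sr i) := by
  classical
  have hex : ∃ m : ℕ, ∃ y ∈ WJ cs J, ∃ z ∈ WJ cs K, cs.length (y * u * z) = m :=
    ⟨_, 1, one_mem _, 1, one_mem _, rfl⟩
  obtain ⟨y, hy, z, hz, hw⟩ := Nat.find_spec hex
  have hmin : ∀ y' ∈ WJ cs J, ∀ z' ∈ WJ cs K, cs.length (y * u * z) ≤ cs.length (y' * u * z') := by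
    intro y' hy' z' hz'
    rw [hw]
    exact Nat.find_min' hex ⟨y', hy', z', hz', rfl⟩
  refine ⟨y, hy, z, hz, ?_, ?_⟩
  · intro i hi
    refine nonneg_of_lt cs h _ i ?_
    rw [cs.length_inv, ← cs.length_inv ((y * u * z)⁻¹ * cs.simple i), mul_inv_rev, inv_inv, cs.inv_simple]
    have h1 := hmin (cs.simple i * y) (mul_mem (simple_mem_WJ cs hi) hy) z hz
    have h2 := cs.length_simple_mul (y * u * z) i
    have e : cs.simple i * y * u * z = cs.simple i * (y * u * z) := by group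
    rw [e] at h1
    omega
  · intro i hi
    refine nonneg_of_lt cs h _ i ?_
    have h1 := hmin y hy (z * cs.simple i) (mul_mem hz (simple_mem_WJ cs hi))
    have h2 := cs.length_mul_simple (y * u * z) i
    have e : y * u * (z * cs.simple i) = y * u * z * cs.simple i := by group
    rw [e] at h1
    omega

theorem conj_mem_WJ {J K : Set I} {u : W} (hu : ∀ k ∈ K, u * cs.simple k * u⁻¹ ∈ WJ cs J) {z : W} (hz : z ∈ WJ cs K) :
    u * z * u⁻¹ ∈ WJ cs J := by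
  have hle : WJ cs K ≤ (WJ cs J).comap (MulAut.conj u).toMonoidHom := by
    unfold WJ
    rw [Subgroup.closure_le]
    rintro _ ⟨k, hk, rfl⟩
    exact hu k hk
  exact hle hz

theorem supp_of_conj {J : Set I} {u : W} {k : I} (hu : u * cs.simple k * u⁻¹ ∈ WJ cs J) :
    ∀ i, i ∉ J → rep cs h u (sr k) i = 0 := by
  intro i hi
  have h1 := rep_WJ_apply (h := h) hu (rep cs h u (sr k)) hi
  rw [rep_mul_apply, rep_mul_apply, rep_inv_apply, rep_simple_sr, map_neg, Pi.neg_apply] at h1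
  omega

theorem sr_inj {i j : I} (e : (sr i : I → ℤ) = sr j) : i = j := by
  by_contra hne
  have h1 := congrFun e i
  rw [sr_self, sr_ne hne] at h1
  exact one_ne_zero h1

theorem exists_mp {J K : Set I} {u : W} (hu : ∀ k ∈ K, u * cs.simple k * u⁻¹ ∈ WJ cs J) :
    ∃ y ∈ WJ cs J, ∃ z ∈ WJ cs K, ∃ K' ⊆ J, Mp cs h K' K (y * u * z) := by
  obtain ⟨y, hy, z, hz, h1, h2⟩ := exists_minW (cs := cs) (h := h) J K u
  have h3 : ∀ k ∈ K, ∃ j ∈ J, rep cs h (y * u * z) (sr k) = sr j := by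
    intro k hk
    have h4 : y * u * z * cs.simple k * (y * u * z)⁻¹ ∈ WJ cs J := by
      have e : y * u * z * cs.simple k * (y * u * z)⁻¹ = y * (u * (z * cs.simple k * z⁻¹) * u⁻¹) * y⁻¹ := by group
      rw [e]
      exact mul_mem (mul_mem hy (conj_mem_WJ hu (mul_mem (mul_mem hz (simple_mem_WJ cs hk)) (inv_mem hz)))) (inv_mem hy)
    have h5 := supp_of_conj (h := h) h4
    have h6 := ht_le_rep h1 (h2 k hk) h5
    rw [rep_inv_apply] at h6
    have h7 : ht (sr k : I → ℤ) = 1 := by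
      unfold ht sr
      simp
    rw [h7] at h6
    obtain ⟨j, hj, hj0⟩ := eq_sr_of_ht ((isRoot_sr cs h k).act _) (h2 k hk) h6
    refine ⟨j, ?_, hj⟩
    by_contra hjJ
    rw [h5 j hjJ] at hj0
    exact lt_irrefl _ hj0
  refine ⟨y, hy, z, hz, {j | ∃ k ∈ K, rep cs h (y * u * z) (sr k) = sr j}, ?_, ?_, ?_⟩
  · rintro j ⟨k, hk, e⟩
    obtain ⟨j', hj', e'⟩ := h3 k hk
    rw [sr_inj (e.symm.trans e')]
    exact hj'
  · intro k hk
    obtain ⟨j, -, e⟩ := h3 k hk
    exact ⟨j, ⟨k, hk, e⟩, e⟩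
  · rintro j ⟨k, hk, e⟩
    exact ⟨k, hk, by rw [← e, rep_inv_apply]⟩

theorem mp_conj {J K : Set I} {w : W} (hw : Mp cs h J K w) {z : W} (hz : z ∈ WJ cs K) : w * z * w⁻¹ ∈ WJ cs J := by
  refine conj_mem_WJ (fun k hk => ?_) hz
  obtain ⟨j, hj, e⟩ := hw.1 k hk
  rw [RootAmalgam.simple_conj cs h e]
  exact simple_mem_WJ cs hj

theorem posRad_map {J K : Set I} {w : W} (hw : ∀ i ∈ K, ∃ j ∈ J, rep cs h w (sr i) = sr j) {k j : I}
    (e : rep cs h w (sr k) = sr j) : ∀ x ∈ PosRad cs h K k, rep cs h w x ∈ PosRad cs h J j := by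
  rintro x ⟨hx, hxk⟩
  have h0 : ∀ i ∈ K, 0 ≤ rep cs h w (sr i) := fun i hi => by
    obtain ⟨j, -, e⟩ := hw i hi
    rw [e]
    exact sr_nonneg j
  refine ⟨⟨hx.1.act w, rep_nonneg_of_supp h0 hx.2.1 hx.2.2, supp_of hw hx.2.2⟩, ?_⟩
  have h1 := rep_apply_ge h0 hx.2.1 hx.2.2 k j
  rw [e, sr_self, mul_one] at h1
  exact lt_of_lt_of_le hxk h1

theorem mem_SK_iff (R : RGD cs h p T n X) {K : Set I} {α β : ↥(LJ cs h T X K) → ℂ} {w : W} :
    w ∈ SK R K K α β ↔ w ∈ SS R K α β :=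
  ⟨fun hw => ⟨⟨hw.1.2, hw.1.1⟩, hw.2⟩, fun hw => ⟨⟨hw.1.2, hw.1.1⟩, hw.2⟩⟩

variable (R : RGD cs h p T n X)

include R

/-! ### transport of cuspidal pairs -/

/-- conjugation of Levi subgroups -/
def cjL {J K : Set I} {w : W} {g : Y} (hg : Rp cs R.nsys w g) (hw : Mp cs h J K w) :
    ↥(LJ cs h T X J) →* ↥(LJ cs h T X K) where
  toFun l := ⟨g⁻¹ * l * g, cj_mem_LJ R hg hw l.2⟩
  map_one' := Subtype.ext (by
    change g⁻¹ * 1 * g = 1
    group)
  map_mul' a b := Subtype.ext (by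
    change g⁻¹ * ((a : Y) * b) * g = g⁻¹ * a * g * (g⁻¹ * b * g)
    group)

theorem cjL_surj {J K : Set I} {w : W} {g : Y} (hg : Rp cs R.nsys w g) (hw : Mp cs h J K w) :
    Function.Surjective (cjL R hg hw) := by
  intro l
  refine ⟨⟨g * l * g⁻¹, cj_mem_LJ' R hg hw l.2⟩, Subtype.ext ?_⟩
  change g⁻¹ * (g * l * g⁻¹) * g = l
  group

theorem exists_tw [Finite Y] {J K : Set I} {w : W} (hw : Mp cs h J K w) {β : ↥(LJ cs h T X K) → ℂ}
    (hβ : IsIrrCharacter _ β) (hd : CuspL cs h T X K β) :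
    ∃ α : ↥(LJ cs h T X J) → ℂ, IsIrrCharacter _ α ∧ CuspL cs h T X J α ∧ w ∈ SK R J K α β := by
  obtain ⟨g, hg⟩ := exists_rp cs R.nsys w
  refine ⟨β ∘ cjL R hg hw, Core.isIrr_comp _ (cjL_surj R hg hw) hβ, ?_, hw, g, hg, fun l hl hl' => rfl⟩
  intro j hj hf
  obtain ⟨k, hk, e⟩ := hw.2 j hj
  have e' : rep cs h w (sr k) = sr j := by rw [← e, rep_apply_inv]
  have : Fintype (rad cs h X K k) := Fintype.ofFinite _
  let q : rad cs h X J j ≃ rad cs h X K k :=
    { toFun := fun v => ⟨g⁻¹ * v * g, conj_mem_Sup' R hg (fun x hx => hx.1.1) (posRad_map hw.2 e) v.2⟩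
      invFun := fun v => ⟨g * v * g⁻¹, conj_mem_Sup R hg (fun x hx => hx.1.1) (posRad_map hw.1 e') v.2⟩
      left_inv := fun v => Subtype.ext (by
        change g * (g⁻¹ * v * g) * g⁻¹ = v
        group)
      right_inv := fun v => Subtype.ext (by
        change g⁻¹ * (g * v * g⁻¹) * g = v
        group) }
  rw [← hd k hk]
  exact Fintype.sum_equiv q _ _ fun v => rfl

/-! ### Mackey terms -/

variable [Fintype Y]

theorem infl_irr {J : Set I} {α : ↥(LJ cs h T X J) → ℂ} (hα : IsIrrCharacter _ α) :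
    IsIrrCharacter _ (α ∘ projL R J) := Core.isIrr_comp _ (projL_surjective R J) hα

open Classical in
theorem term_eq {J K : Set I} [Fintype ↥(PJ cs h T X J)] {α : ↥(LJ cs h T X J) → ℂ} {β : ↥(LJ cs h T X K) → ℂ}
    (hα : IsIrrCharacter _ α) (hβ : IsIrrCharacter _ β) {w : W} (hw : Mp cs h J K w) {r : Y} (hr : Rp cs R.nsys w r)
    [Fintype (ds (PJ cs h T X J) (PJ cs h T X K) r)] :
    (Fintype.card (ds (PJ cs h T X J) (PJ cs h T X K) r) : ℂ)⁻¹ *
      tw (PJ cs h T X J) (PJ cs h T X K) (α ∘ projL R J) (β ∘ projL R K) r =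
        if w ∈ SK R J K α β then 1 else 0 := by
  have : Fintype ↥(LJ cs h T X J) := Fintype.ofFinite _
  have hαP := infl_irr R hα
  have hβP := infl_irr R hβ
  split_ifs with hw'
  · obtain ⟨-, g, hg, htw⟩ := hw'
    have htr := TwK.congr R (Core.isIrr_isClassFunction hβ) hg hr htw
    rw [tw_eq_classInner]
    let f : ↥(LJ cs h T X J) →* ds (PJ cs h T X J) (PJ cs h T X K) r :=
      { toFun := fun l => ⟨⟨l, LJ_le_PJ l.2⟩, (mem_ds _ _ _ _).2 (LJ_le_PJ (cj_mem_LJ R hr hw l.2))⟩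
        map_one' := rfl
        map_mul' := fun _ _ => rfl }
    have e1 : (β ∘ projL R K) ∘ dh (PJ cs h T X J) (PJ cs h T X K) r =
        (α ∘ projL R J) ∘ (ds (PJ cs h T X J) (PJ cs h T X K) r).subtype := by
      funext d
      exact (infl_eq' R hr hw htr (d : PJ cs h T X J).2 ((mem_ds _ _ _ _).1 d.2)).symm
    rw [e1]
    have hi : IsCharacter _ ((α ∘ projL R J) ∘ (ds (PJ cs h T X J) (PJ cs h T X K) r).subtype) :=
      Core.isCharacter_comp _ (Core.isIrr_isCharacter hαP)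
    have h1 : IsIrrCharacter _ (((α ∘ projL R J) ∘ (ds (PJ cs h T X J) (PJ cs h T X K) r).subtype) ∘ f) := by
      have : (((α ∘ projL R J) ∘ (ds (PJ cs h T X J) (PJ cs h T X K) r).subtype) ∘ f) = α := by
        funext l
        exact congrArg α (projL_L R l.2)
      rw [this]
      exact hα
    exact Core.classInner_irr_self (isIrr_of_comp f hi h1)
  · have hβc : IsIrrCharacter _ (β ∘ cjL R hr hw) := Core.isIrr_comp _ (cjL_surj R hr hw) hβ
    have hne : α ≠ β ∘ cjL R hr hw := by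
      intro he
      apply hw'
      refine ⟨hw, r, hr, ?_⟩
      intro l hl hl'
      rw [he]
      rfl
    have h4 := Core.classInner_irr_ne hα hβc hne
    rw [tw_eq_zero_of_hom (PJ cs h T X J) (PJ cs h T X K) (Core.isIrr_isCharacter hαP)
      (Core.isIrr_isCharacter hβP) r (LJ cs h T X J).subtype (fun l => LJ_le_PJ l.2)
      (fun l => LJ_le_PJ (cj_mem_LJ R hr hw l.2)), mul_zero]
    rw [Core.classInner_def, mul_eq_zero] at h4
    rcases h4 with h4 | h4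
    · exact absurd (inv_eq_zero.1 h4) Core.card_ne_zero_complex
    · rw [← h4]
      refine Finset.sum_congr rfl fun l _ => ?_
      have e1 : (α ∘ projL R J) ⟨(l : Y), LJ_le_PJ l.2⟩ = α l := congrArg α (projL_L R l.2)
      have e2 : (β ∘ projL R K) ⟨r⁻¹ * (l : Y) * r, LJ_le_PJ (cj_mem_LJ R hr hw l.2)⟩ =
          (β ∘ cjL R hr hw) l := by
        have := projL_L R (cj_mem_LJ R hr hw l.2)
        rw [Function.comp_apply, this]
        rfl
      exact congrArg₂ (fun a b : ℂ => a * conj b) e1 e2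

theorem mem_of_tw_ne (hG : GG cs h T X = ⊤) {J K : Set I} [Fintype ↥(PJ cs h T X J)] {α : ↥(LJ cs h T X J) → ℂ}
    {β : ↥(LJ cs h T X K) → ℂ} (hα : IsIrrCharacter _ α) (hβ : IsIrrCharacter _ β) (hc : CuspL cs h T X J α)
    (hd : CuspL cs h T X K β) {x : Y}
    (hx : tw (PJ cs h T X J) (PJ cs h T X K) (α ∘ projL R J) (β ∘ projL R K) x ≠ 0) :
    ∃ a ∈ PJ cs h T X J, ∃ b ∈ PJ cs h T X K, ∃ w ∈ SK R J K α β, ∃ g, Rp cs R.nsys w g ∧ x = a * g * b := by
  classical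
  have hαP := infl_irr R hα
  have hβP := infl_irr R hβ
  obtain ⟨a, ha, b, hb, w, g, hg, e, h1, h2⟩ := exists_min R hG J K x
  rw [e, tw_mul (PJ cs h T X J) (PJ cs h T X K) (Core.isIrr_isClassFunction hαP) (Core.isIrr_isClassFunction hβP)
    ha hb] at hx
  rcases mp_or h1 h2 with hp | ⟨i, hi, hrad⟩ | ⟨i, hi, hrad⟩
  · refine ⟨a, ha, b, hb, w, ?_, g, hg, e⟩
    have : Fintype (ds (PJ cs h T X J) (PJ cs h T X K) g) := Fintype.ofFinite _
    have h3 := term_eq R hα hβ hp hg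
    by_contra hn
    rw [if_neg hn] at h3
    have h4 : (Fintype.card (ds (PJ cs h T X J) (PJ cs h T X K) g) : ℂ) ≠ 0 := by
      have : 0 < Fintype.card (ds (PJ cs h T X J) (PJ cs h T X K) g) := Fintype.card_pos
      exact_mod_cast this.ne'
    exact hx ((mul_eq_zero.1 h3).resolve_left (inv_ne_zero h4))
  · exfalso
    apply hx
    have hconj : ∀ l ∈ rad cs h X J i, g⁻¹ * l * g ∈ VJ cs h X K := fun l hl =>
      conj_mem_Sup' R hg (fun x hx => hx.1.1) hrad hl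
    have : Fintype (rad cs h X J i) := Fintype.ofFinite _
    refine tw_eq_zero_of_hom (PJ cs h T X J) (PJ cs h T X K) (Core.isIrr_isCharacter hαP)
      (Core.isIrr_isCharacter hβP) g (rad cs h X J i).subtype (fun l => rad_le_PJ J i l.2)
      (fun l => VJ_le_PJ (hconj l l.2)) ?_
    have h3 : ∀ l : rad cs h X J i, (α ∘ projL R J) ⟨(rad cs h X J i).subtype l, rad_le_PJ J i l.2⟩ *
        conj ((β ∘ projL R K) ⟨g⁻¹ * (rad cs h X J i).subtype l * g, VJ_le_PJ (hconj l l.2)⟩) =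
        α ⟨l, rad_le_LJ J i l.2⟩ * conj (β 1) := by
      intro l
      have e1 : projL R J ⟨(rad cs h X J i).subtype l, rad_le_PJ J i l.2⟩ = ⟨l, rad_le_LJ J i l.2⟩ :=
        projL_L R (rad_le_LJ J i l.2)
      have e2 : projL R K ⟨g⁻¹ * (rad cs h X J i).subtype l * g, VJ_le_PJ (hconj l l.2)⟩ = 1 :=
        projL_V R (hconj l l.2)
      rw [Function.comp_apply, Function.comp_apply, e1, e2]
    rw [Finset.sum_congr rfl fun l _ => h3 l, ← Finset.sum_mul, hc i hi, zero_mul]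
  · exfalso
    apply hx
    have hconj : ∀ l ∈ rad cs h X K i, g * l * g⁻¹ ∈ VJ cs h X J := fun l hl =>
      conj_mem_Sup R hg (fun x hx => hx.1.1) hrad hl
    have : Fintype (rad cs h X K i) := Fintype.ofFinite _
    let f : ↥(rad cs h X K i) →* Y := (MulAut.conj g).toMonoidHom.comp (rad cs h X K i).subtype
    have hfl : ∀ l, f l = g * l * g⁻¹ := fun l => rfl
    have hfg : ∀ l, g⁻¹ * f l * g = l := fun l => by rw [hfl]; group
    refine tw_eq_zero_of_hom (PJ cs h T X J) (PJ cs h T X K) (Core.isIrr_isCharacter hαP)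
      (Core.isIrr_isCharacter hβP) g f (fun l => VJ_le_PJ (hconj l l.2))
      (fun l => by rw [hfg]; exact rad_le_PJ K i l.2) ?_
    have h3 : ∀ (l : rad cs h X K i) (h1 : f l ∈ PJ cs h T X J) (h2 : g⁻¹ * f l * g ∈ PJ cs h T X K),
        (α ∘ projL R J) ⟨f l, h1⟩ * conj ((β ∘ projL R K) ⟨g⁻¹ * f l * g, h2⟩) =
        α 1 * conj (β ⟨l, rad_le_LJ K i l.2⟩) := by
      intro l h1 h2
      have e1 : projL R J ⟨f l, h1⟩ = 1 := projL_V R (hconj l l.2)
      have e2 : projL R K ⟨g⁻¹ * f l * g, h2⟩ = ⟨l, rad_le_LJ K i l.2⟩ := by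
        have e3 : (⟨g⁻¹ * f l * g, h2⟩ : PJ cs h T X K) = ⟨l, LJ_le_PJ (rad_le_LJ K i l.2)⟩ := Subtype.ext (hfg l)
        rw [e3]
        exact projL_L R (rad_le_LJ K i l.2)
      rw [Function.comp_apply, Function.comp_apply, e1, e2]
    rw [Finset.sum_congr rfl fun l _ => h3 l _ _, ← Finset.mul_sum, ← map_sum, hd i hi, map_zero, mul_zero]

omit [Fintype Y] in
theorem rp_mem_PJ_iff {E : Set I} {w : W} {g : Y} (hg : Rp cs R.nsys w g) : g ∈ PJ cs h T X E ↔ w ∈ WJ cs E :=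
  cell_mem_PJ_iff R (cell_of_rp hg)

/-- induction of the inflation from `P_J` to `P_E` -/
noncomputable def HR (E J : Set I) [Fintype ↥(PJ cs h T X E)] (α : ↥(LJ cs h T X J) → ℂ) : ↥(PJ cs h T X E) → ℂ :=
  ind (PJ cs h T X E) (PJ cs h T X J) (α ∘ projL R J)

/-- **Mackey's formula in `P_E`.** -/
theorem inner_rel (hG : GG cs h T X = ⊤) {E J K : Set I} [Fintype ↥(PJ cs h T X E)] (hJ : J ⊆ E) (hK : K ⊆ E)
    {α : ↥(LJ cs h T X J) → ℂ} {β : ↥(LJ cs h T X K) → ℂ} (hα : IsIrrCharacter _ α) (hβ : IsIrrCharacter _ β)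
    (hc : CuspL cs h T X J α) (hd : CuspL cs h T X K β) :
    classInner (HR R E J α) (HR R E K β) = ((SK R J K α β ∩ WJ cs E).ncard : ℂ) := by
  classical
  have : Fintype W := Fintype.ofFinite W
  have : Fintype ↥(PJ cs h T X J) := Fintype.ofFinite _
  have : Fintype ↥(PJ cs h T X K) := Fintype.ofFinite _
  have hαP := infl_irr R hα
  have hβP := infl_irr R hβ
  choose r hr using fun w : {w : W // Mp cs h J K w} => exists_rp cs R.nsys (w : W)
  let F : Y → ℂ := fun x => if x ∈ PJ cs h T X E then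
    tw (PJ cs h T X J) (PJ cs h T X K) (α ∘ projL R J) (β ∘ projL R K) x else 0
  have h1 : ∑ x : PJ cs h T X E, tw (PJ cs h T X J) (PJ cs h T X K) (α ∘ projL R J) (β ∘ projL R K) x = ∑ x, F x := by
    rw [sum_eq_sum_subgroup (PJ cs h T X E) F fun g hg => if_neg hg]
    exact Finset.sum_congr rfl fun x _ => (if_pos x.2).symm
  have hF : ∀ a ∈ PJ cs h T X J, ∀ b ∈ PJ cs h T X K, ∀ y, F (a * y * b) = F y := by
    intro a ha b hb y
    have h2 : a * y * b ∈ PJ cs h T X E ↔ y ∈ PJ cs h T X E := by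
      rw [Subgroup.mul_mem_cancel_right _ (PJ_mono hK hb), Subgroup.mul_mem_cancel_left _ (PJ_mono hJ ha)]
    simp only [F, h2]
    rw [tw_mul _ _ (Core.isIrr_isClassFunction hαP) (Core.isIrr_isClassFunction hβP) ha hb]
  have h2 := sum_dc (PJ cs h T X J) (PJ cs h T X K) F hF r ?_ ?_
  · have h3 : ∀ w, (Fintype.card (ds (PJ cs h T X J) (PJ cs h T X K) (r w)) : ℂ)⁻¹ * F (r w) =
        if (w : W) ∈ SK R J K α β ∩ WJ cs E then 1 else 0 := by
      intro w
      by_cases hw : (w : W) ∈ WJ cs E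
      · have h4 : F (r w) = _ := if_pos ((rp_mem_PJ_iff R (hr w)).2 hw)
        rw [h4, term_eq R hα hβ w.2 (hr w)]
        have h5 : (w : W) ∈ SK R J K α β ∩ WJ cs E ↔ (w : W) ∈ SK R J K α β := ⟨fun h => h.1, fun h => ⟨h, hw⟩⟩
        simp only [h5]
      · have h4 : F (r w) = 0 := if_neg fun h => hw ((rp_mem_PJ_iff R (hr w)).1 h)
        rw [h4, mul_zero, if_neg fun h => hw h.2]
    unfold HR
    rw [classInner_ind_ind (PJ_mono hJ) (PJ_mono hK), h1, h2, Finset.sum_congr rfl fun w _ => h3 w, Finset.sum_boole]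
    have hH : (Nat.card (PJ cs h T X J) : ℂ) ≠ 0 := card_ne_zero'
    have hK : (Nat.card (PJ cs h T X K) : ℂ) ≠ 0 := card_ne_zero'
    field_simp
    congr 1
    rw [← Set.ncard_coe_finset, ← Set.ncard_image_of_injective _ Subtype.val_injective]
    congr 1
    ext w
    constructor
    · rintro ⟨w', hw', rfl⟩
      simpa using hw'
    · intro hw
      exact ⟨⟨w, hw.1.1⟩, by simpa using hw, rfl⟩
  · rintro w w' ⟨a, ha, b, hb, e⟩
    obtain ⟨y₁, hy₁, hc₁⟩ := (mem_PJ_iff_cell R).1 (inv_mem ha)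
    obtain ⟨y₂, hy₂, hc₂⟩ := (mem_PJ_iff_cell R).1 hb
    have h1 := Cell.mul_of_length R (mp_length' w'.2 hy₁) hc₁ (cell_of_rp (hr w'))
    have h2 := Cell.mul_of_length R (mp_length w.2 hy₂) (cell_of_rp (hr w)) hc₂
    have e2 : a⁻¹ * r w' = r w * b := by rw [e]; group
    rw [e2] at h1
    exact Subtype.ext (mp_eq w.2 w'.2 hy₁ hy₂ (Cell.unique R h1 h2))
  · intro x hx
    by_contra hne
    have h3 : tw (PJ cs h T X J) (PJ cs h T X K) (α ∘ projL R J) (β ∘ projL R K) x ≠ 0 := by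
      intro h0
      apply hne
      simp only [F, h0, ite_self]
    obtain ⟨a, ha, b, hb, w, hw, g, hg, e⟩ := mem_of_tw_ne R hG hα hβ hc hd h3
    have h4 := (hr ⟨w, hw.1⟩).unique hg
    refine hx ⟨w, hw.1⟩ ⟨a, ha, ((r ⟨w, hw.1⟩)⁻¹ * g) * b, mul_mem (LJ_le_PJ (T_le_LJ h4)) hb, ?_⟩
    rw [e]
    group

/-- **Conjugate pairs induce the same character of `P_E`.** -/
theorem ind_eq (hG : GG cs h T X = ⊤) {E J K : Set I} [Fintype ↥(PJ cs h T X E)] (hJ : J ⊆ E) (hK : K ⊆ E)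
    {α : ↥(LJ cs h T X J) → ℂ} {β : ↥(LJ cs h T X K) → ℂ} (hα : IsIrrCharacter _ α) (hβ : IsIrrCharacter _ β)
    (hc : CuspL cs h T X J α) (hd : CuspL cs h T X K β) {w : W} (hw : w ∈ SK R J K α β) (hE : w ∈ WJ cs E) :
    HR R E J α = HR R E K β := by
  refine eq_of_inner (c := ((SK R J K α β ∩ WJ cs E).ncard : ℂ)) ?_ (inner_rel R hG hJ hK hα hβ hc hd) ?_ ?_
  · rw [inner_rel R hG hJ hJ hα hα hc hc]
    congr 1
    refine Set.ncard_congr (fun u _ => u * w) (fun u hu => ⟨SK.mul R hu.1 hw, mul_mem hu.2 hE⟩)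
      (fun u v _ _ he => mul_right_cancel he) ?_
    intro v hv
    exact ⟨v * w⁻¹, ⟨SK.mul R hv.1 (SK.inv R hw), mul_mem hv.2 (inv_mem hE)⟩, by group⟩
  · rw [inner_rel R hG hK hJ hβ hα hd hc]
    congr 1
    refine Set.ncard_congr (fun u _ => u⁻¹) (fun u hu => ⟨SK.inv R hu.1, inv_mem hu.2⟩)
      (fun u v _ _ he => inv_injective he) ?_
    intro v hv
    exact ⟨v⁻¹, ⟨SK.inv R hv.1, inv_mem hv.2⟩, by group⟩
  · rw [inner_rel R hG hK hK hβ hβ hd hd]
    congr 1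
    refine Set.ncard_congr (fun u _ => w * u) (fun u hu => ⟨SK.mul R hw hu.1, mul_mem hE hu.2⟩)
      (fun u v _ _ he => mul_left_cancel he) ?_
    intro v hv
    exact ⟨w⁻¹ * v, ⟨SK.mul R (SK.inv R hw) hv.1, mul_mem (inv_mem hE) hv.2⟩, by group⟩

/-- **The series of a character of `P_E` with `V_E` in its kernel.** -/
theorem exists_rel {E : Set I} [Fintype ↥(PJ cs h T X E)] {χ : ↥(PJ cs h T X E) → ℂ} (hχ : IsIrrCharacter _ χ)
    (hV₀ : ∀ v (hv : v ∈ VJ cs h X E), χ ⟨v, VJ_le_PJ hv⟩ = χ 1) :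
    ∃ J ⊆ E, ∃ α : ↥(LJ cs h T X J) → ℂ, IsIrrCharacter _ α ∧ CuspL cs h T X J α ∧ classInner (HR R E J α) χ ≠ 0 := by
  classical
  let _ : ∀ J : Set I, Fintype (VJ cs h X J) := fun J => Fintype.ofFinite _
  have hVE : ∀ J : Set I, VJ cs h X J ≤ PJ cs h T X E := fun J => le_trans (VJ_le_B (T := T) J) B_le_PJ
  have hex : ∃ k : ℕ, ∃ J ⊆ E, J.ncard = k ∧ ∑ v : VJ cs h X J, χ ⟨v, hVE J v.2⟩ ≠ 0 := by
    refine ⟨_, E, subset_rfl, rfl, ?_⟩
    rw [Finset.sum_congr rfl fun (v : VJ cs h X E) _ => hV₀ v v.2, Finset.sum_const, Finset.card_univ, nsmul_eq_mul]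
    refine mul_ne_zero ?_ (Core.isIrr_apply_one_ne_zero hχ)
    have : 0 < Fintype.card (VJ cs h X E) := Fintype.card_pos
    exact_mod_cast this.ne'
  obtain ⟨J, hJE, hJ, hJ0⟩ := Nat.find_spec hex
  have hmin : ∀ K ⊆ E, K.ncard < J.ncard → ∑ v : VJ cs h X K, χ ⟨v, hVE K v.2⟩ = 0 := by
    intro K hKE hK
    by_contra hne
    rw [hJ] at hK
    exact Nat.find_min hex hK ⟨K, hKE, rfl, hne⟩
  have : Fintype (PJ cs h T X J) := Fintype.ofFinite _
  have : Fintype (LJ cs h T X J) := Fintype.ofFinite _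
  have : Finite (IrrCharacter (PJ cs h T X J)) := Core.finite_irr
  have : Fintype (IrrCharacter (PJ cs h T X J)) := Fintype.ofFinite _
  have hPP : PJ cs h T X J ≤ PJ cs h T X E := PJ_mono hJE
  have hres : IsCharacter (PJ cs h T X J) (χ ∘ Subgroup.inclusion hPP) :=
    Core.isCharacter_comp _ (Core.isIrr_isCharacter hχ)
  obtain ⟨m, hm⟩ := Core.exists_nat_comb hres
  have hVP : VJ cs h X J ≤ PJ cs h T X J := VJ_le_PJ
  have hNor : ((VJ cs h X J).subgroupOf (PJ cs h T X J)).Normal :=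
    (Subgroup.normal_subgroupOf_iff_le_normalizer hVP).2 (PJ_le_normalizer_VJ R J)
  have : Fintype ((VJ cs h X J).subgroupOf (PJ cs h T X J)) := Fintype.ofFinite _
  have h1 : (∑ v : VJ cs h X J, χ ⟨v, hVE J v.2⟩ : ℂ) =
      ∑ ψ : IrrCharacter (PJ cs h T X J), (m ψ : ℂ) * ∑ v : VJ cs h X J, (ψ : PJ cs h T X J → ℂ) ⟨v, hVP v.2⟩ := by
    symm
    simp only [Finset.mul_sum]
    rw [Finset.sum_comm]
    refine Finset.sum_congr rfl fun v _ => ?_
    have h2 := congrFun hm ⟨v, hVP v.2⟩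
    simp only [Finset.sum_apply, nsmul_eq_mul] at h2
    exact h2.symm
  rw [h1] at hJ0
  obtain ⟨ψ, -, hψ⟩ := Finset.exists_ne_zero_of_sum_ne_zero hJ0
  have hm0 : (m ψ : ℂ) ≠ 0 := left_ne_zero_of_mul hψ
  have hs0 := right_ne_zero_of_mul hψ
  have hV : ∀ (v : Y) (hv : v ∈ VJ cs h X J), (ψ : PJ cs h T X J → ℂ) ⟨v, VJ_le_PJ hv⟩ =
      (ψ : PJ cs h T X J → ℂ) 1 := fun v hv =>
    const_of_sum_ne_zero ((VJ cs h X J).subgroupOf (PJ cs h T X J)) ψ.2 (by
      intro h0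
      apply hs0
      rw [← h0]
      exact (Fintype.sum_equiv (Subgroup.subgroupOfEquivOfLe hVP).symm.toEquiv _ _ fun v => rfl)) _
      (by rw [Subgroup.mem_subgroupOf]; exact hv)
  have hψχ : classInner (χ ∘ Subgroup.inclusion hPP) (ψ : PJ cs h T X J → ℂ) ≠ 0 := by
    rw [hm, Core.classInner_sum_nsmul_irr]
    exact hm0
  let α : LJ cs h T X J → ℂ := (ψ : PJ cs h T X J → ℂ) ∘ Subgroup.inclusion LJ_le_PJ
  have hαc : IsCharacter _ α := Core.isCharacter_comp _ (Core.isIrr_isCharacter ψ.2)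
  have hαψ : α ∘ projL R J = (ψ : PJ cs h T X J → ℂ) := by
    funext q
    obtain ⟨l, hl, v, hv, hq⟩ := (mem_PJ R).1 q.2
    have e1 : q = ⟨l, LJ_le_PJ hl⟩ * ⟨v, VJ_le_PJ hv⟩ := Subtype.ext hq
    rw [e1, apply_mul_ker (Core.isIrr_isCharacter ψ.2) (hV v hv), Function.comp_apply, map_mul, projL_L R hl,
      projL_V R hv, mul_one]
    rfl
  have hα : IsIrrCharacter _ α := isIrr_of_comp (projL R J) hαc (by rw [hαψ]; exact ψ.2)
  refine ⟨J, hJE, α, hα, ?_, ?_⟩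
  · intro i hi hf
    by_contra hne
    have hlt : (J \ {i}).ncard < J.ncard := Set.ncard_lt_ncard ⟨Set.sdiff_subset, fun hle => (hle hi).2 rfl⟩
    have hP : VJ cs h X (J \ {i}) ≤ PJ cs h T X J := fun v hv => (projL_VJ R hi hv).choose
    let π : VJ cs h X (J \ {i}) →* rad cs h X J i :=
      { toFun := fun v => ⟨projL R J ⟨v, hP v.2⟩, (projL_VJ R hi v.2).choose_spec⟩
        map_one' := by
          apply Subtype.ext
          change ((projL R J ⟨1, _⟩ : LJ cs h T X J) : Y) = 1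
          have : (⟨1, hP (one_mem _)⟩ : PJ cs h T X J) = 1 := rfl
          rw [this, map_one]
          rfl
        map_mul' := fun a b => by
          apply Subtype.ext
          change ((projL R J (⟨a, hP a.2⟩ * ⟨b, hP b.2⟩) : LJ cs h T X J) : Y) = _
          rw [map_mul]
          rfl }
    have hπ : Function.Surjective π := by
      intro u
      refine ⟨⟨u, rad_le_VJ R hi u.2⟩, Subtype.ext ?_⟩
      change ((projL R J ⟨u, _⟩ : LJ cs h T X J) : Y) = u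
      rw [projL_L R (rad_le_LJ J i u.2)]
    obtain ⟨c, hc, hsum⟩ := sum_comp_surj π hπ (fun u => α ⟨u, rad_le_LJ J i u.2⟩)
    have h2 : ∑ v : VJ cs h X (J \ {i}), (ψ : PJ cs h T X J → ℂ) (Subgroup.inclusion hP v) ≠ 0 := by
      have h3 : ∀ v : VJ cs h X (J \ {i}), (ψ : PJ cs h T X J → ℂ) (Subgroup.inclusion hP v) =
          (fun u : rad cs h X J i => α ⟨u, rad_le_LJ J i u.2⟩) (π v) := by
        intro v
        rw [← hαψ]
        rfl
      rw [Finset.sum_congr rfl fun v _ => h3 v, hsum]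
      exact mul_ne_zero hc hne
    exact sum_hom_ne_zero (Subgroup.inclusion hP) hres ψ.2 hψχ h2 (hmin _ (Set.sdiff_subset.trans hJE) hlt)
  · unfold HR
    rw [hαψ, classInner_ind_left hPP _ (Core.isIrr_isClassFunction hχ)]
    exact classInner_symm_ne hψχ

end Cfsg.Agent.VAN.HC
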