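import Cfsg.Agent.VAN.HC.Rel
import Cfsg.Agent.H273.RC.AbelBound

/-!
# S4942: the support theorem (helper82)

`sup` : if `χ` does not vanish at `g ∈ L_J` without fixed points on `V_J` then `χ` lies in a series `(K, α)`, `K ⊆ J`, whose
relative Weyl group in `W_J` is not conjugate into a `W_J'` such that `g` avoids `P_J'`.
-/

set_option autoImplicit false
set_option linter.unusedSectionVars false

open scoped ComplexConjugate Pointwise
open Cfsg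

namespace Cfsg.Agent.VAN.HC

open Cfsg.Agent.OddOrderCharacters.Clifford Cfsg.Agent.Characters Cfsg.Agent.H53.HC Cfsg.Agent.H641.Gow
  Cfsg.Agent.H45.GG

open CoxeterSystem Cfsg.Agent.ChevalleyStructure.CoxeterGeom Cfsg.Agent.Tits.Roots Cfsg.Agent.Tits.Core
  Cfsg.Agent.Tits.Exchange Cfsg.Agent.Nodes.Reps Cfsg.Agent.Nodes.BNOf Cfsg.Agent.Nodes.StabComb
  Cfsg.Agent.Nodes.Bruhat Cfsg.Agent.Nodes.OppDec Cfsg.Agent.Nodes.LeviDec
open Cfsg.Agent.H246.Dl (classInner_symm_ne PJ_mono)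

section abs

variable {G : Type*} [Group G]

theorem isIrr_of_mul (f : G → ℂ) (h1 : f 1 = 1) (hm : ∀ x y, f (x * y) = f x * f y) : IsIrrCharacter G f := by
  let ρ : Representation ℂ G ℂ :=
    { toFun := fun g => f g • LinearMap.id
      map_one' := by rw [h1, one_smul]; rfl
      map_mul' := fun x y => by
        ext
        simp [hm, mul_comm] }
  have h := Core.isIrrCharacter_of_rep ρ (Core.isIrr_of_finrank_one (by simp) _)
  convert h using 1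
  funext g
  change _ = LinearMap.trace ℂ ℂ (f g • LinearMap.id)
  simp

theorem exists_constituent [Fintype G] {χ : G → ℂ} (hχ : IsCharacter G χ) {g : G} (h0 : χ g ≠ 0) :
    ∃ ψ, IsIrrCharacter G ψ ∧ classInner χ ψ ≠ 0 ∧ ψ g ≠ 0 := by
  classical
  have : Finite (IrrCharacter G) := Core.finite_irr
  have : Fintype (IrrCharacter G) := Fintype.ofFinite _
  obtain ⟨m, hm⟩ := Core.exists_nat_comb hχ
  have h1 := congrFun hm g
  simp only [Finset.sum_apply, nsmul_eq_mul, Pi.mul_apply] at h1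
  rw [h1] at h0
  obtain ⟨ψ, -, hψ⟩ := Finset.exists_ne_zero_of_sum_ne_zero h0
  refine ⟨ψ, ψ.2, ?_, right_ne_zero_of_mul hψ⟩
  rw [hm, Core.classInner_sum_nsmul_irr]
  exact left_ne_zero_of_mul hψ

theorem inner_ne_of_common [Fintype G] {a b χ : G → ℂ} (ha : IsCharacter G a) (hb : IsCharacter G b)
    (hχ : IsIrrCharacter G χ) (h1 : classInner a χ ≠ 0) (h2 : classInner b χ ≠ 0) : classInner a b ≠ 0 := by
  have e : a = χ + (a - χ) := by ring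
  rw [e, Core.classInner_add_left]
  obtain ⟨c, ec⟩ := Core.classInner_isNat (Core.isIrr_isCharacter hχ) hb
  obtain ⟨d, ed⟩ := Core.classInner_isNat (isCharacter_sub_irr ha hχ h1) hb
  have h3 := classInner_symm_ne h2
  rw [ec] at h3
  rw [ec, ed]
  have hc : c ≠ 0 := by
    rintro rfl
    exact h3 Nat.cast_zero
  have : c + d ≠ 0 := by omega
  exact_mod_cast this

end abs

variable {I W Y : Type*} [Fintype I] [DecidableEq I] [Group W] [Group Y] {M : CoxeterMatrix I}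
  {cs : CoxeterSystem M W} {A : I → I → ℤ} {h : IsCartan M A} {p : ℕ} {T : Subgroup Y} {n : I → Y}
  {X : (I → ℤ) → Subgroup Y} [Finite W]

omit [Finite W] in
theorem LJ_empty : LJ cs h T X ∅ = T := by
  refine le_antisymm (sup_le le_rfl (RGD.Sup_le fun x hx => ?_)) T_le_LJ
  exact absurd (funext fun k => hx.2 k (Set.notMem_empty k)) hx.1.ne_zero

omit [Finite W] in
theorem VJ_empty : VJ cs h X ∅ = RGD.Sup X (RGD.Pos cs h) := by
  refine le_antisymm (VJ_le_U _) (RGD.Sup_mono fun x hx => ?_)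
  rcases mem_PosJ_or_NotJ ∅ hx.1 hx.2 with h1 | h1
  · exact absurd (funext fun k => h1.2.2 k (Set.notMem_empty k)) hx.1.ne_zero
  · exact h1

omit [Finite W] in
theorem VJ_univ : VJ cs h X Set.univ = ⊥ := by
  rw [eq_bot_iff]
  refine RGD.Sup_le fun x hx => ?_
  obtain ⟨-, -, k, hk, -⟩ := hx
  exact absurd (Set.mem_univ k) hk

omit [Finite W] in
theorem VJ_le_PK (J K : Set I) : VJ cs h X J ≤ PJ cs h T X K := le_trans (VJ_le_B (T := T) J) B_le_PJ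

variable (R : RGD cs h p T n X)

include R

/-- the Levi decomposition -/
noncomputable def levi (J : Set I) : LJ cs h T X J × VJ cs h X J ≃ PJ cs h T X J :=
  Equiv.ofBijective (fun x => ⟨x.1 * x.2, mul_mem (LJ_le_PJ x.1.2) (VJ_le_PJ x.2.2)⟩) (by
    constructor
    · rintro ⟨l, v⟩ ⟨l', v'⟩ e
      have h1 : (l : Y) * v = l' * v' := congrArg Subtype.val e
      have h2 : (l' : Y)⁻¹ * l = v' * (v : Y)⁻¹ := by
        rw [inv_mul_eq_iff_eq_mul, ← mul_assoc, ← h1, mul_inv_cancel_right]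
      have h3 := eq_one_of_mem_LJ_of_mem_VJ R (mul_mem (inv_mem l'.2) l.2) (h2 ▸ mul_mem v'.2 (inv_mem v.2))
      have h4 : l = l' := Subtype.ext (inv_mul_eq_one.1 h3).symm
      subst h4
      exact Prod.ext rfl (Subtype.ext (mul_left_cancel h1))
    · intro q
      obtain ⟨l, hl, v, hv, e⟩ := (mem_PJ R).1 q.2
      exact ⟨(⟨l, hl⟩, ⟨v, hv⟩), Subtype.ext e.symm⟩)

theorem levi_coe (J : Set I) (l : LJ cs h T X J) (v : VJ cs h X J) : (levi R J (l, v) : Y) = l * v := rfl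

theorem projL_levi (J : Set I) (l : LJ cs h T X J) (v : VJ cs h X J) : projL R J (levi R J (l, v)) = l := by
  have e : levi R J (l, v) = ⟨l, LJ_le_PJ l.2⟩ * ⟨v, VJ_le_PJ v.2⟩ := rfl
  rw [e, map_mul, projL_L R l.2, projL_V R v.2, mul_one]

theorem sum_PJ (J : Set I) [Fintype (PJ cs h T X J)] [Fintype (LJ cs h T X J)] [Fintype (VJ cs h X J)]
    (F : PJ cs h T X J → ℂ) : ∑ x, F x = ∑ l, ∑ v, F (levi R J (l, v)) := by
  rw [← (levi R J).sum_comp F, Fintype.sum_prod_type]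

/-- `P_J`-conjugates and `L_J`-conjugates -/
theorem Av.conj {J K : Set I} {g : Y} (hA : Av cs h T X J K g) {x : Y} (hx : x ∈ PJ cs h T X J) :
    x⁻¹ * g * x ∉ PJ cs h T X K := by
  obtain ⟨l, hl, v, hv, rfl⟩ := (mem_PJ R).1 hx
  intro h1
  apply hA l hl
  have e : l⁻¹ * g * l = v * ((l * v)⁻¹ * g * (l * v)) * v⁻¹ := by group
  rw [e]
  exact mul_mem (mul_mem (VJ_le_PK J K hv) h1) (inv_mem (VJ_le_PK J K hv))

variable [Fintype Y]

theorem HR_char {E J : Set I} [Fintype ↥(PJ cs h T X E)] (hJ : J ⊆ E) {α : ↥(LJ cs h T X J) → ℂ}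
    (hα : IsIrrCharacter _ α) : IsCharacter _ (HR R E J α) :=
  ind_char (PJ_mono hJ) (Core.isIrr_isCharacter (infl_irr R hα))

theorem HC_char {J : Set I} {α : ↥(LJ cs h T X J) → ℂ} (hα : IsIrrCharacter _ α) : IsCharacter _ (HC R J α) :=
  S0148.result _ _ (Core.isIrr_isCharacter (infl_irr R hα))

theorem ne_of_rel {E J : Set I} [Fintype ↥(PJ cs h T X E)] (hJ : J ⊆ E) {α : ↥(LJ cs h T X J) → ℂ}
    (hα : IsIrrCharacter _ α) {ψ : ↥(PJ cs h T X E) → ℂ} (hψ : IsIrrCharacter _ ψ) (h1 : classInner (HR R E J α) ψ ≠ 0)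
    {χ : Y → ℂ} (hχ : IsIrrCharacter Y χ) (h2 : classInner (χ ∘ (PJ cs h T X E).subtype) ψ ≠ 0) :
    classInner (HC R J α) χ ≠ 0 := by
  have h3 := ne_zero_trans _ (HR_char R hJ hα) hψ h1 (Core.isIrr_isCharacter hχ) h2
  unfold HR at h3
  rwa [ind_trans (PJ_mono hJ)] at h3

theorem rel_of_fpf {J : Set I} [Fintype ↥(PJ cs h T X J)] {g : Y} (hg : Fpf cs h T X J g) {ψ : ↥(PJ cs h T X J) → ℂ}
    (hψ : IsIrrCharacter _ ψ) (h0 : ψ ⟨g, LJ_le_PJ hg.1⟩ ≠ 0) :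
    ∃ K ⊆ J, ∃ α : ↥(LJ cs h T X K) → ℂ, IsIrrCharacter _ α ∧ CuspL cs h T X K α ∧ classInner (HR R J K α) ψ ≠ 0 := by
  have hVP : VJ cs h X J ≤ PJ cs h T X J := VJ_le_PJ
  have hNor : ((VJ cs h X J).subgroupOf (PJ cs h T X J)).Normal :=
    (Subgroup.normal_subgroupOf_iff_le_normalizer hVP).2 (PJ_le_normalizer_VJ R J)
  refine exists_rel R hψ fun v hv => ?_
  refine ker_of_fpf ((VJ cs h X J).subgroupOf (PJ cs h T X J)) (fun u hu e => ?_) hψ h0 _ hv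
  exact Subtype.ext (hg.2 u hu (congrArg Subtype.val e))

/-- the support theorem in `P_J` -/
theorem big_of_rel (hG : GG cs h T X = ⊤) {J K : Set I} [Fintype ↥(PJ cs h T X J)] (hK : K ⊆ J)
    {α : ↥(LJ cs h T X K) → ℂ} (hα : IsIrrCharacter _ α) (hc : CuspL cs h T X K α) {ψ : ↥(PJ cs h T X J) → ℂ}
    (hψ : IsIrrCharacter _ ψ) (h1 : classInner (HR R J K α) ψ ≠ 0) {g : ↥(PJ cs h T X J)} (h0 : ψ g ≠ 0) {J' : Set I}
    (hJ' : J' ⊆ J) (hA : Av cs h T X J J' g) : Big cs J J' K (SS R K α α) := by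
  classical
  rintro u hu ⟨h2, h3⟩
  obtain ⟨y, hy, z, hz, K', hK', hm⟩ := exists_mp (h := h) h2
  obtain ⟨α', hα', hc', hw⟩ := exists_tw R hm hα hc
  have hwJ : y * u * z ∈ WJ cs J := mul_mem (mul_mem (WJ_mono cs hJ' hy) hu) (WJ_mono cs hK hz)
  rw [← ind_eq R hG (hK'.trans hJ') hK hα' hα hc' hc hw hwJ] at h1
  have : Fintype ↥(PJ cs h T X K') := Fintype.ofFinite _
  apply h0
  refine zero_of_sub' (P := PJ cs h T X J') (PJ_mono hK') (PJ_mono (hK'.trans hJ')) (infl_irr R hα') ?_ hψ h1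
    fun x hx => hA.conj R hx
  intro x hxJ hx
  by_contra hne
  obtain ⟨a, ha, b, hb, v, hv, k, hk, e⟩ := mem_of_tw_ne R hG hα' hα' hc' hc' hne
  apply hx
  have hkJ : k ∈ PJ cs h T X J := by
    rw [e, Subgroup.mul_mem_cancel_right _ (PJ_mono (hK'.trans hJ') hb),
      Subgroup.mul_mem_cancel_left _ (PJ_mono (hK'.trans hJ') ha)] at hxJ
    exact hxJ
  have hvJ : v ∈ WJ cs J := (rp_mem_PJ_iff R hk).1 hkJ
  have h4 : (y * u * z)⁻¹ * v * (y * u * z) ∈ SK R K K α α := SK.mul R (SK.mul R (SK.inv R hw) hv) hw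
  have h5 := h3 _ ((mem_SK_iff R).1 h4) (mul_mem (mul_mem (inv_mem hwJ) hvJ) hwJ)
  have h6 : v ∈ WJ cs J' := by
    have h7 := conj_mem_WJ h2 hz
    have e2 : v = y * ((u * z * u⁻¹) * (u * ((y * u * z)⁻¹ * v * (y * u * z)) * u⁻¹) * (u * z * u⁻¹)⁻¹) * y⁻¹ := by
      group
    rw [e2]
    exact mul_mem (mul_mem hy (mul_mem (mul_mem h7 h5) (inv_mem h7))) (inv_mem hy)
  rw [e]
  exact mul_mem (mul_mem (PJ_mono hK' ha) ((rp_mem_PJ_iff R hk).2 h6)) (PJ_mono hK' hb)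

theorem pser_sum {χ θ : Y → ℂ} (hχ : IsClassFunction Y χ) {α : ↥(LJ cs h T X ∅) → ℂ} (hα : ∀ l, α l = θ l) :
    classInner (HC R ∅ α) χ ≠ 0 ↔ ∑ᶠ (t : T) (u : RGD.Sup X (RGD.Pos cs h)), χ (t * u) * conj (θ t) ≠ 0 := by
  classical
  have : Fintype ↥(PJ cs h T X ∅) := Fintype.ofFinite _
  have : Fintype ↥(LJ cs h T X ∅) := Fintype.ofFinite _
  have : Fintype ↥(VJ cs h X ∅) := Fintype.ofFinite _
  have : Fintype T := Fintype.ofFinite _
  have : Fintype (RGD.Sup X (RGD.Pos cs h)) := Fintype.ofFinite _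
  unfold HC
  rw [classInner_indFun _ _ _ hχ, ← Core.classInner_conj_symm, map_ne_zero, classInner_apply,
    mul_ne_zero_iff_left (inv_ne_zero card_ne_zero'), sum_PJ R, finsum_eq_sum_of_fintype]
  simp only [finsum_eq_sum_of_fintype]
  have e : ∑ l : LJ cs h T X ∅, ∑ v : VJ cs h X ∅, χ (levi R ∅ (l, v)) * conj ((α ∘ projL R ∅) (levi R ∅ (l, v))) =
      ∑ t : T, ∑ u : RGD.Sup X (RGD.Pos cs h), χ (t * u) * conj (θ t) := by
    refine Fintype.sum_equiv (MulEquiv.subgroupCongr LJ_empty).toEquiv _ _ fun l => ?_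
    refine Fintype.sum_equiv (MulEquiv.subgroupCongr VJ_empty).toEquiv _ _ fun v => ?_
    rw [Function.comp_apply, projL_levi, hα]
    rfl
  rw [e]

theorem cusp_empty (α : ↥(LJ cs h T X ∅) → ℂ) : CuspL cs h T X ∅ α := fun _ hi => absurd hi (Set.notMem_empty _)

theorem PSer.ser {χ θ : Y → ℂ} (hχ : IsIrrCharacter Y χ) (hθ : PSer cs h T X χ θ) : Ser R χ ∅ fun l => θ l := by
  refine ⟨isIrr_of_mul _ hθ.1.one fun a b => hθ.1.mul _ (LJ_empty.le a.2) _ (LJ_empty.le b.2), cusp_empty R _, ?_⟩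
  exact (pser_sum R (Core.isIrr_isClassFunction hχ) fun _ => rfl).2 hθ.2

variable (hG : GG cs h T X = ⊤) {χ : Y → ℂ} (hχ : IsIrrCharacter Y χ)
include hG hχ

theorem sup {J : Set I} {g : Y} (hg : Fpf cs h T X J g) (h0 : χ g ≠ 0) :
    ∃ K ⊆ J, ∃ α, Ser R χ K α ∧ ∀ J' ⊆ J, Av cs h T X J J' g → Big cs J J' K (SS R K α α) := by
  have : Fintype ↥(PJ cs h T X J) := Fintype.ofFinite _
  obtain ⟨ψ, hψ, h1, h2⟩ := exists_constituent (Core.isCharacter_comp (PJ cs h T X J).subtype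
    (Core.isIrr_isCharacter hχ)) (g := ⟨g, LJ_le_PJ hg.1⟩) h0
  obtain ⟨K, hK, α, hα, hc, h3⟩ := rel_of_fpf R hg hψ h2
  exact ⟨K, hK, α, ⟨hα, hc, ne_of_rel R hK hα hψ h3 hχ h1⟩,
    fun J' hJ' hA => big_of_rel R hG hK hα hc hψ h3 h2 hJ' hA⟩

/-- the form for the type `K` -/
theorem sup_type {J : Set I} {g : Y} (hg : Fpf cs h T X J g) (h0 : χ g ≠ 0) :
    ∃ K ⊆ J, (∃ α, Ser R χ K α) ∧ ∀ J' ⊆ J, Av cs h T X J J' g → Big cs J J' K {w | Perm cs h K w} := by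
  obtain ⟨K, hK, α, h1, h2⟩ := sup R hG hχ hg h0
  exact ⟨K, hK, ⟨α, h1⟩, fun J' hJ' hA => (h2 J' hJ' hA).mono cs fun w hw => hw.1⟩

theorem Ser.sk {K K' : Set I} {α : ↥(LJ cs h T X K) → ℂ} {α' : ↥(LJ cs h T X K') → ℂ} (h1 : Ser R χ K α)
    (h2 : Ser R χ K' α') : ∃ w, w ∈ SK R K K' α α' :=
  (HC_eq_of_ne R hG K K' h1.irr h2.irr h1.cusp h2.cusp
    (inner_ne_of_common (HC_char R h1.irr) (HC_char R h2.irr) hχ h1.ne h2.ne)).2

theorem Ser.mp {K K' : Set I} {α : ↥(LJ cs h T X K) → ℂ} {α' : ↥(LJ cs h T X K') → ℂ} (h1 : Ser R χ K α)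
    (h2 : Ser R χ K' α') : ∃ w, Mp cs h K K' w := by
  obtain ⟨w, hw⟩ := Ser.sk R hG hχ h1 h2
  exact ⟨w, hw.1⟩

theorem Ser.pser (hT : ∀ a ∈ T, ∀ b ∈ T, a * b = b * a) {α : ↥(LJ cs h T X ∅) → ℂ} (h1 : Ser R χ ∅ α) :
    ∃ θ, PSer cs h T X χ θ := by
  have : Fintype ↥(LJ cs h T X ∅) := Fintype.ofFinite _
  obtain ⟨h2, h3, -⟩ := H273.RC.irr_abel
    (fun a b : LJ cs h T X ∅ => Subtype.ext (hT _ (LJ_empty.le a.2) _ (LJ_empty.le b.2))) h1.irr
  refine ⟨extendByZero _ α, ⟨?_, fun a ha b hb => ?_⟩, ?_⟩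
  · rw [ext_apply_mem _ α 1 (one_mem _)]
    exact h2
  · rw [ext_apply_mem _ α a (T_le_LJ ha), ext_apply_mem _ α b (T_le_LJ hb),
      ext_apply_mem _ α _ (T_le_LJ (mul_mem ha hb))]
    exact h3 ⟨a, _⟩ ⟨b, _⟩
  · exact (pser_sum R (Core.isIrr_isClassFunction hχ) fun l => (ext_apply_coe _ α l).symm).1 h1.ne

/-- a character of the principal series is in no other series -/
theorem PSer.eq_empty {θ : Y → ℂ} (hθ : PSer cs h T X χ θ) {K : Set I} {α : ↥(LJ cs h T X K) → ℂ} (h1 : Ser R χ K α) :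
    K = ∅ := by
  obtain ⟨w, hw⟩ := Ser.mp R hG hχ (hθ.ser R hχ) h1
  rw [Set.eq_empty_iff_forall_notMem]
  intro k hk
  obtain ⟨j, hj, -⟩ := hw.1 k hk
  exact hj

/-- the form for the principal series -/
theorem sup_ps {θ : Y → ℂ} (hθ : PSer cs h T X χ θ) {J : Set I} {g : Y} (hg : Fpf cs h T X J g) (h0 : χ g ≠ 0) :
    ∃ w x, Rp cs R.nsys w x ∧ ∀ J' ⊆ J, Av cs h T X J J' g →
      Big cs J J' ∅ (Stab R fun t => θ (x⁻¹ * t * x)) := by
  obtain ⟨K, hK, α, h1, h2⟩ := sup R hG hχ hg h0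
  obtain rfl := hθ.eq_empty R hG hχ h1
  obtain ⟨w, -, x, hx, hw⟩ := Ser.sk R hG hχ h1 (hθ.ser R hχ)
  have h3 : ∀ t (ht : t ∈ T), α ⟨t, T_le_LJ ht⟩ = θ (x⁻¹ * t * x) := by
    intro t ht
    have h4 := (Subgroup.mem_normalizer_iff.1 (inv_mem hx.mem_normalizer) t).1 ht
    rw [inv_inv] at h4
    exact hw t (T_le_LJ ht) (T_le_LJ h4)
  refine ⟨w, x, hx, fun J' hJ' hA => (h2 J' hJ' hA).mono cs ?_⟩
  rintro v ⟨-, k, hk, hv⟩ k' hk' t ht
  have h4 := (Subgroup.mem_normalizer_iff.1 (inv_mem hk'.mem_normalizer) t).1 ht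
  rw [inv_inv] at h4
  have h5 := Tw.congr R (Core.isIrr_isClassFunction h1.irr) hk hk' hv t (T_le_LJ ht) (T_le_LJ h4)
  change θ (x⁻¹ * (k'⁻¹ * t * k') * x) = θ (x⁻¹ * t * x)
  rw [← h3 t ht, ← h3 _ h4, h5]

omit hχ in
theorem fpf_univ (g : Y) : Fpf cs h T X Set.univ g := by
  refine ⟨by rw [LJ_univ, hG]; trivial, fun v hv _ => ?_⟩
  rwa [VJ_univ, Subgroup.mem_bot] at hv

end Cfsg.Agent.VAN.HC
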